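import Groth.Prelude.Def_StGerb
import Groth.Prelude.Def_FibCat2

set_option autoImplicit false
set_option backward.isDefEq.respectTransparency false

universe v₄ u₄ v₃ u₃ v₂ u₂ v u

open CategoryTheory Limits

namespace GerbA

variable {C : Type u} [Category.{v} C]
  {𝒳 : BasedCategory.{v₂, u₂} C} {𝒴 : BasedCategory.{v₃, u₃} C} {𝒵 : BasedCategory.{v₄, u₄} C}

/-- every morphism lying over `f` is strongly cartesian over `f` in a category fibred in groupoids -/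
theorem isSC (h : FibCat.IsFibGrpd 𝒳.p) {R S : C} (f : R ⟶ S) {a b : 𝒳.obj} (φ : a ⟶ b)
    [𝒳.p.IsHomLift f φ] : 𝒳.p.IsStronglyCartesian f φ := by
  subst_hom_lift 𝒳.p f φ
  exact h.isStronglyCartesian φ

/-- a morphism over `f : V ⟶ p x` with target `x`, for `x` over `U` -/
theorem exists_pullback (h : FibCat.IsFibGrpd 𝒳.p) {x : 𝒳.obj} {U V : C} (hx : 𝒳.p.obj x = U)
    (f : V ⟶ U) : ∃ (y : 𝒳.obj) (φ : y ⟶ x), 𝒳.p.IsHomLift f φ := by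
  subst hx; exact h.exists_lift f

theorem locSurjObj_fpFst (J : GrothendieckTopology C) (f : 𝒳 ⥤ᵇ 𝒵) (g : 𝒴 ⥤ᵇ 𝒵)
    (h𝒴 : FibCat.IsFibGrpd 𝒴.p) (h𝒵 : FibCat.IsFibGrpd 𝒵.p) (hf : Gerb.LocSurjObj J f) :
    Gerb.LocSurjObj J (FibCat.fpFst g f) := by
  intro y
  obtain ⟨R, hR, hR'⟩ := hf (g.obj y)
  have hU : 𝒵.p.obj (g.obj y) = 𝒴.p.obj y := g.w_obj y
  refine ⟨R.pullback (eqToHom hU.symm), J.pullback_stable (eqToHom hU.symm) hR, fun V h hh => ?_⟩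
  · obtain ⟨x, φ, hφ⟩ := hR' (h ≫ eqToHom hU.symm) hh
    obtain ⟨y', u, hu⟩ := exists_pullback h𝒴 (rfl : 𝒴.p.obj y = _) h
    haveI : 𝒵.p.IsHomLift h φ := by
      haveI := hφ
      simpa using (inferInstance : 𝒵.p.IsHomLift ((h ≫ eqToHom hU.symm) ≫ eqToHom hU) φ)
    haveI : 𝒵.p.IsHomLift h (g.map u) := (BasedFunctor.isHomLift_iff g h u).mpr hu
    haveI := isSC h𝒵 h φ
    haveI := isSC h𝒵 h (g.map u)
    let ι := Functor.IsCartesian.domainUniqueUpToIso 𝒵.p h φ (g.map u)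
    have hV : 𝒴.p.obj y' = V := IsHomLift.domain_eq 𝒴.p h u
    refine ⟨⟨⟨y', x, ι⟩, ?_⟩, u, hu⟩
    show 𝒵.p.IsHomLift (𝟙 (𝒴.p.obj y')) ι.hom
    rw [hV]
    infer_instance

theorem locSurjHom_fpFst (J : GrothendieckTopology C) (f : 𝒳 ⥤ᵇ 𝒵) (g : 𝒴 ⥤ᵇ 𝒵)
    (h𝒴 : FibCat.IsFibGrpd 𝒴.p) (h𝒵 : FibCat.IsFibGrpd 𝒵.p) (hf : Gerb.LocSurjHom J f) :
    Gerb.LocSurjHom J (FibCat.fpFst g f) := by
  intro z1 z2 (b : z1.obj.fst ⟶ z2.obj.fst) (hb : 𝒴.p.IsHomLift (𝟙 (𝒴.p.obj z1.obj.fst)) b)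
  haveI h1 : 𝒵.p.IsHomLift (𝟙 (𝒴.p.obj z1.obj.fst)) z1.obj.iso.hom := z1.property
  haveI h2' : 𝒵.p.IsHomLift (𝟙 (𝒴.p.obj z2.obj.fst)) z2.obj.iso.hom := z2.property
  have hU2 : 𝒴.p.obj z2.obj.fst = 𝒴.p.obj z1.obj.fst := IsHomLift.codomain_eq 𝒴.p (𝟙 (𝒴.p.obj z1.obj.fst)) b
  haveI h2 : 𝒵.p.IsHomLift (𝟙 (𝒴.p.obj z1.obj.fst)) z2.obj.iso.hom := hU2 ▸ h2'
  have hx : 𝒳.p.obj z1.obj.snd = 𝒴.p.obj z1.obj.fst :=
    (f.w_obj _).symm.trans (IsHomLift.codomain_eq 𝒵.p (𝟙 (𝒴.p.obj z1.obj.fst)) z1.obj.iso.hom)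
  haveI := (BasedFunctor.isHomLift_iff g (𝟙 (𝒴.p.obj z1.obj.fst)) b).mpr hb
  let c : f.obj z1.obj.snd ⟶ f.obj z2.obj.snd := z1.obj.iso.inv ≫ g.map b ≫ z2.obj.iso.hom
  have hc : 𝒵.p.IsHomLift (𝟙 (𝒴.p.obj z1.obj.fst)) c := by
    show 𝒵.p.IsHomLift _ (z1.obj.iso.inv ≫ g.map b ≫ z2.obj.iso.hom)
    infer_instance
  obtain ⟨R, hR, hR'⟩ := hf z1.obj.snd z2.obj.snd c (by rw [hx]; exact hc)
  refine ⟨R.pullback (eqToHom hx.symm), ?_, fun V h hh => ?_⟩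
  · exact J.pullback_stable (eqToHom hx.symm) hR
  · obtain ⟨x0, φ, ψ, hφ, hψ, hφψ⟩ := hR' (h ≫ eqToHom hx.symm) hh
    obtain ⟨y0, u, hu⟩ := exists_pullback h𝒴 (rfl : 𝒴.p.obj z1.obj.fst = _) h
    haveI : 𝒳.p.IsHomLift h φ := by
      simpa using (inferInstance : 𝒳.p.IsHomLift ((h ≫ eqToHom hx.symm) ≫ eqToHom hx) φ)
    haveI : 𝒳.p.IsHomLift h ψ := by
      simpa using (inferInstance : 𝒳.p.IsHomLift ((h ≫ eqToHom hx.symm) ≫ eqToHom hx) ψ)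
    haveI := (BasedFunctor.isHomLift_iff g h u).mpr hu
    haveI : 𝒵.p.IsHomLift h (f.map φ) := (BasedFunctor.isHomLift_iff f h φ).mpr inferInstance
    haveI : 𝒵.p.IsHomLift h (g.map u ≫ z1.obj.iso.hom) := by
      exact IsHomLift.comp_lift_id_right' 𝒵.p h (g.map u) (𝒴.p.obj z1.obj.fst) z1.obj.iso.hom
    haveI := isSC h𝒵 h (f.map φ)
    haveI := isSC h𝒵 h (g.map u ≫ z1.obj.iso.hom)
    let ι := Functor.IsCartesian.domainUniqueUpToIso 𝒵.p h (f.map φ) (g.map u ≫ z1.obj.iso.hom)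
    have hι : ι.hom ≫ f.map φ = g.map u ≫ z1.obj.iso.hom :=
      Functor.IsCartesian.fac 𝒵.p h (f.map φ) (g.map u ≫ z1.obj.iso.hom)
    have hV : 𝒴.p.obj y0 = V := IsHomLift.domain_eq 𝒴.p h u
    haveI : 𝒴.p.IsHomLift h (u ≫ b) := by
      haveI := hb
      exact IsHomLift.comp_lift_id_right' 𝒴.p h u (𝒴.p.obj z1.obj.fst) b
    refine ⟨⟨⟨y0, x0, ι⟩, ?_⟩, ObjectProperty.homMk ⟨u, φ, hι.symm⟩,
      ObjectProperty.homMk ⟨u ≫ b, ψ, ?_⟩, ?_, ?_, rfl⟩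
    · show 𝒵.p.IsHomLift (𝟙 (𝒴.p.obj y0)) ι.hom
      rw [hV]; infer_instance
    · show g.map (u ≫ b) ≫ z2.obj.iso.hom = ι.hom ≫ f.map ψ
      rw [← hφψ, ← Category.assoc ι.hom, hι]
      simp [c]
    · exact IsHomLift.of_fac _ _ _ (IsHomLift.domain_eq 𝒴.p h u) rfl (IsHomLift.fac 𝒴.p h u)
    · exact IsHomLift.of_fac _ _ _ (IsHomLift.domain_eq 𝒴.p h u) hU2 (IsHomLift.fac 𝒴.p h (u ≫ b))

theorem isGerbeOver_fpFst (J : GrothendieckTopology C) (f : 𝒳 ⥤ᵇ 𝒵) (g : 𝒴 ⥤ᵇ 𝒵)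
    (h𝒴 : FibCat.IsFibGrpd 𝒴.p) (h𝒵 : FibCat.IsFibGrpd 𝒵.p) (hf : Gerb.IsGerbeOver J f) :
    Gerb.IsGerbeOver J (FibCat.fpFst g f) :=
  ⟨locSurjObj_fpFst J f g h𝒴 h𝒵 hf.1, locSurjHom_fpFst J f g h𝒴 h𝒵 hf.2⟩

/-- being a gerbe is invariant under precomposition with an equivalence over the base -/
theorem isGerbeOver_precomp {𝒲 : BasedCategory.{v₄, u₄} C} (J : GrothendieckTopology C) (E : 𝒲 ⥤ᵇ 𝒳)
    (hE : FibCat.IsEquivOver E) (F : 𝒳 ⥤ᵇ 𝒴) (hF : Gerb.IsGerbeOver J F) :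
    Gerb.IsGerbeOver J (BasedFunctor.comp E F) := by
  obtain ⟨G, ⟨η⟩, ⟨ε⟩⟩ := hE
  haveI : E.toFunctor.IsEquivalence := (CategoryTheory.Equivalence.mk E.toFunctor G.toFunctor
    ((BasedNatTrans.forgetful _ _).mapIso η).symm ((BasedNatTrans.forgetful _ _).mapIso ε)).isEquivalence_functor
  refine ⟨fun y => ?_, fun w w' b hb => ?_⟩
  · obtain ⟨R, hR, hR'⟩ := hF.1 y
    refine ⟨R, hR, fun V h hh => ?_⟩
    obtain ⟨x, g, hg⟩ := hR' h hh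
    have hV : 𝒳.p.obj x = V := (F.w_obj x).symm.trans (IsHomLift.domain_eq 𝒴.p h g)
    haveI : 𝒳.p.IsHomLift (𝟙 V) (ε.hom.toNatTrans.app x) := ε.hom.isHomLift hV
    haveI : 𝒴.p.IsHomLift (𝟙 V) (F.map (ε.hom.toNatTrans.app x)) :=
      (BasedFunctor.isHomLift_iff F _ _).mpr inferInstance
    exact ⟨G.obj x, F.map (ε.hom.toNatTrans.app x) ≫ g, IsHomLift.comp_lift_id_left' 𝒴.p V (F.map (ε.hom.toNatTrans.app x)) h g⟩
  · have hU : 𝒳.p.obj (E.obj w) = 𝒲.p.obj w := E.w_obj w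
    obtain ⟨R, hR, hR'⟩ := hF.2 (E.obj w) (E.obj w') b (by rw [hU]; exact hb)
    refine ⟨R.pullback (eqToHom hU.symm), J.pullback_stable (eqToHom hU.symm) hR, fun V h hh => ?_⟩
    obtain ⟨x0, φ, ψ, hφ, hψ, he⟩ := hR' (h ≫ eqToHom hU.symm) hh
    haveI : 𝒳.p.IsHomLift h φ := by
      simpa using (inferInstance : 𝒳.p.IsHomLift ((h ≫ eqToHom hU.symm) ≫ eqToHom hU) φ)
    haveI : 𝒳.p.IsHomLift h ψ := by
      simpa using (inferInstance : 𝒳.p.IsHomLift ((h ≫ eqToHom hU.symm) ≫ eqToHom hU) ψ)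
    have hV : 𝒳.p.obj x0 = V := IsHomLift.domain_eq 𝒳.p h φ
    haveI : 𝒳.p.IsHomLift (𝟙 V) (ε.hom.toNatTrans.app x0) := ε.hom.isHomLift hV
    refine ⟨G.obj x0, E.toFunctor.preimage (ε.hom.toNatTrans.app x0 ≫ φ),
      E.toFunctor.preimage (ε.hom.toNatTrans.app x0 ≫ ψ), ?_, ?_, ?_⟩
    · rw [← BasedFunctor.isHomLift_iff E, Functor.map_preimage]; infer_instance
    · rw [← BasedFunctor.isHomLift_iff E, Functor.map_preimage]; infer_instance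
    · show F.map (E.toFunctor.map _) ≫ b = F.map (E.toFunctor.map _)
      rw [Functor.map_preimage, Functor.map_preimage, Functor.map_comp, Functor.map_comp, Category.assoc, he]

end GerbA
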