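import Groth.Prelude.Def_StGerb
import Groth.Prelude.Def_StGerb2
import Groth.Agent.StkGlue.Hom
import Groth.Agent.Fib.Basic

/-!
# Gerbes with a global object: local isomorphisms, extending isomorphisms of endofunctors
-/

set_option autoImplicit false
set_option maxHeartbeats 400000
set_option linter.style.haveILetI false
set_option linter.unusedSectionVars false
set_option backward.isDefEq.respectTransparency false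
set_option backward.isDefEq.respectTransparency.types false

open CategoryTheory CategoryTheory.Functor Opposite
open Groth.Agent

universe v₃ u₃ v₂ u₂ v u

namespace GerbA

variable {C : Type u} [Category.{v} C] {J : GrothendieckTopology C}
  {𝒳 : BasedCategory.{v₂, u₂} C} {𝒴 : BasedCategory.{v₃, u₃} C}

theorem locally_iso (h : Gerb.IsGerbe J 𝒳) {x x' : 𝒳.obj} {U : C} (hx : 𝒳.p.obj x = U)
    (hx' : 𝒳.p.obj x' = U) : ∃ R ∈ J U, ∀ ⦃V : C⦄ (f : V ⟶ U), R f →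
      ∃ (x₀ : 𝒳.obj) (φ : x₀ ⟶ x) (ψ : x₀ ⟶ x'), 𝒳.p.IsHomLift f φ ∧ 𝒳.p.IsHomLift f ψ := by
  subst hx
  have hb : (FibCat.selfOver C).p.IsHomLift (𝟙 (𝒳.p.obj x))
      (eqToHom hx'.symm : (FibCat.toSelf 𝒳).obj x ⟶ (FibCat.toSelf 𝒳).obj x') :=
    IsHomLift.of_fac _ _ _ rfl hx' (by
      change 𝟙 _ = eqToHom rfl ≫ eqToHom hx'.symm ≫ eqToHom hx'
      simp)
  obtain ⟨R, hR, hR'⟩ := h.2.2 x x' (eqToHom hx'.symm) hb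
  refine ⟨R, hR, fun V f hf => ?_⟩
  obtain ⟨x₀, φ, ψ, h₁, h₂, -⟩ := hR' f hf
  exact ⟨x₀, φ, ψ, h₁, h₂⟩

theorem locally_to (h : Gerb.IsGerbe J 𝒳) {T : C} (t : ∀ U : C, U ⟶ T) {s : 𝒳.obj}
    (hs : 𝒳.p.obj s = T) {U : C} {y : 𝒳.obj} (hy : 𝒳.p.obj y = U) :
    ∃ R ∈ J U, ∀ ⦃V : C⦄ (f : V ⟶ U), R f →
      ∃ (y' : 𝒳.obj) (k : y' ⟶ y), 𝒳.p.IsHomLift f k ∧ Nonempty (y' ⟶ s) := by
  obtain ⟨s', α, hα⟩ := StkGlue.exists_lift_at h.1.1 hs (t U)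
  haveI := hα
  obtain ⟨R, hR, hR'⟩ := locally_iso h hy (IsHomLift.domain_eq 𝒳.p (t U) α)
  refine ⟨R, hR, fun V f hf => ?_⟩
  obtain ⟨x₀, φ, ψ, h₁, -⟩ := hR' f hf
  exact ⟨x₀, φ, h₁, ⟨ψ ≫ α⟩⟩

theorem lift_obj_eq {U V : C} {a b : 𝒳.obj} (f : V ⟶ U) (φ : a ⟶ b) (h : 𝒳.p.IsHomLift f φ) :
    𝒳.p.obj a = V :=
  IsHomLift.domain_eq 𝒳.p f φ

theorem lift_id_cast {U V : C} (e : U = V) {a b : 𝒳.obj} {φ : a ⟶ b}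
    (h : 𝒳.p.IsHomLift (𝟙 U) φ) : 𝒳.p.IsHomLift (𝟙 V) φ := e ▸ h

section Extend

variable (h𝒳 : Gerb.IsGerbe J 𝒳) {T : C} (hT : ∀ U : C, Subsingleton (U ⟶ T)) (t : ∀ U : C, U ⟶ T)
  (Φ : 𝒳 ⥤ᵇ 𝒳) {x : 𝒳.obj} (hx : 𝒳.p.obj x = T)
  (g : Φ.obj x ⟶ x) (hg : 𝒳.p.IsHomLift (𝟙 (𝒳.p.obj x)) g)

include h𝒳 hg

/-- the conjugation isomorphism attached to an object mapping to `x` -/
theorem exists_G {y : 𝒳.obj} (c : y ⟶ x) :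
    ∃ m : Φ.obj y ⟶ y, 𝒳.p.IsHomLift (𝟙 (𝒳.p.obj y)) m ∧ m ≫ c = Φ.map c ≫ g := by
  haveI := hg
  haveI : 𝒳.p.IsHomLift (𝒳.p.map c) c := IsHomLift.map 𝒳.p c
  haveI : 𝒳.p.IsHomLift (𝒳.p.map c) (Φ.map c) := BasedFunctor.preserves_isHomLift Φ _ _
  haveI : 𝒳.p.IsHomLift (𝒳.p.map c) (Φ.map c ≫ g) :=
    IsHomLift.comp_lift_id_right 𝒳.p _ (Φ.map c) g
  haveI : 𝒳.p.IsHomLift (𝟙 (𝒳.p.obj y) ≫ 𝒳.p.map c) (Φ.map c ≫ g) := by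
    rw [Category.id_comp]; infer_instance
  obtain ⟨m, hm, -⟩ := StkGlue.existsUnique_fac h𝒳.1.1 (𝒳.p.map c) (𝟙 (𝒳.p.obj y)) c (Φ.map c ≫ g)
  exact ⟨m, hm⟩

variable (hconj : ∀ (x' : 𝒳.obj) (c : x' ⟶ x) (g' : Φ.obj x' ⟶ x'), 𝒳.p.IsHomLift (𝟙 (𝒳.p.obj x')) g' →
      Φ.map c ≫ g = g' ≫ c → ∀ α : Gerb.AutO x', Φ.map α.hom.1 ≫ g' = g' ≫ α.hom.1)

include hT hx hconj

theorem G_natural {y z : 𝒳.obj} (j : z ⟶ y) (c : y ⟶ x) (c' : z ⟶ x)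
    (m : Φ.obj y ⟶ y) (hm : 𝒳.p.IsHomLift (𝟙 (𝒳.p.obj y)) m) (hmc : m ≫ c = Φ.map c ≫ g)
    (m' : Φ.obj z ⟶ z) (hm' : 𝒳.p.IsHomLift (𝟙 (𝒳.p.obj z)) m') (hmc' : m' ≫ c' = Φ.map c' ≫ g) :
    Φ.map j ≫ m = m' ≫ j := by
  have hgr := h𝒳.1.1
  haveI := hm
  haveI := hm'
  haveI := hg
  haveI : 𝒳.p.IsHomLift (𝒳.p.map j) j := IsHomLift.map 𝒳.p j
  haveI : 𝒳.p.IsHomLift (𝒳.p.map j) (Φ.map j) := BasedFunctor.preserves_isHomLift Φ _ _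
  haveI : 𝒳.p.IsHomLift (𝒳.p.map c) c := IsHomLift.map 𝒳.p c
  haveI : 𝒳.p.IsHomLift (𝒳.p.map c') c' := IsHomLift.map 𝒳.p c'
  have hbase : 𝒳.p.map j ≫ 𝒳.p.map c = 𝒳.p.map c' :=
    have : Subsingleton (𝒳.p.obj z ⟶ 𝒳.p.obj x) := hx.symm ▸ hT _
    Subsingleton.elim _ _
  haveI : 𝒳.p.IsHomLift (𝟙 (𝒳.p.obj z) ≫ 𝒳.p.map c') (j ≫ c) := by
    rw [Category.id_comp, ← hbase]; infer_instance
  obtain ⟨i, ⟨hi, hic⟩, -⟩ := StkGlue.existsUnique_fac hgr (𝒳.p.map c') (𝟙 (𝒳.p.obj z)) c' (j ≫ c)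
  haveI := hi
  haveI : IsIso i := Fib.isIso_of_isHomLift 𝒳.p hgr (𝟙 (𝒳.p.obj z)) i
  have hα := hconj z c' m' hm' hmc'.symm (Fib.fiberIso 𝒳.p (asIso i) hi)
  change Φ.map i ≫ m' = m' ≫ i at hα
  haveI : 𝒳.p.IsHomLift (𝒳.p.map j) (Φ.map j ≫ m) := IsHomLift.comp_lift_id_right 𝒳.p _ (Φ.map j) m
  haveI : 𝒳.p.IsHomLift (𝒳.p.map j) (m' ≫ j) := IsHomLift.comp_lift_id_left 𝒳.p _ j m'
  haveI := Fib.isStronglyCartesian_of_isFibGrpd 𝒳.p hgr (𝒳.p.map c) c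
  refine IsStronglyCartesian.ext 𝒳.p (𝒳.p.map c) c (𝒳.p.map j) ?_
  rw [Category.assoc, hmc, ← Category.assoc, ← CategoryTheory.Functor.map_comp, ← hic,
    CategoryTheory.Functor.map_comp, Category.assoc, ← hmc', ← Category.assoc, hα, Category.assoc,
    hic, Category.assoc]

include t

theorem exists_rho (y : 𝒳.obj) : ∃ f : Φ.obj y ⟶ y, 𝒳.p.IsHomLift (𝟙 (𝒳.p.obj y)) f ∧
    ∀ (y' : 𝒳.obj) (k : y' ⟶ y) (c : y' ⟶ x) (m : Φ.obj y' ⟶ y'),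
      𝒳.p.IsHomLift (𝟙 (𝒳.p.obj y')) m → m ≫ c = Φ.map c ≫ g → Φ.map k ≫ f = m ≫ k := by
  have hgr := h𝒳.1.1
  obtain ⟨R, hR, hR'⟩ := locally_to h𝒳 t hx (rfl : 𝒳.p.obj y = _)
  choose y₀ k₀ hk₀ c₀ using hR'
  have c₀' : ∀ {V : C} (h : V ⟶ 𝒳.p.obj y) (hh : R h), y₀ h hh ⟶ x := fun h hh => (c₀ h hh).some
  choose G hG hGc using fun (y' : 𝒳.obj) (c : y' ⟶ x) => exists_G h𝒳 Φ g hg c
  have hex : ∀ {V : C} (h : V ⟶ 𝒳.p.obj y) (hh : R h) (a' : 𝒳.obj) (α : a' ⟶ Φ.obj y),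
      𝒳.p.IsHomLift h α → ∃ m : a' ⟶ Φ.obj (y₀ h hh),
        𝒳.p.IsHomLift (𝟙 V) m ∧ m ≫ Φ.map (k₀ h hh) = α := by
    intro V h hh a' α hα
    haveI := hα
    haveI := hk₀ h hh
    haveI : 𝒳.p.IsHomLift h (Φ.map (k₀ h hh)) := BasedFunctor.preserves_isHomLift Φ _ _
    haveI : 𝒳.p.IsHomLift (𝟙 V ≫ h) α := by rw [Category.id_comp]; exact hα
    obtain ⟨m, hm, -⟩ := StkGlue.existsUnique_fac hgr h (𝟙 V) (Φ.map (k₀ h hh)) α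
    exact ⟨m, hm⟩
  choose m₀ hm₀ hm₀' using @hex
  let γ : ∀ ⦃V : C⦄ (h : V ⟶ 𝒳.p.obj y), R h → ∀ (a' : 𝒳.obj) (α : a' ⟶ Φ.obj y),
      𝒳.p.IsHomLift h α → (a' ⟶ y) := fun V h hh a' α hα =>
    m₀ h hh a' α hα ≫ G (y₀ h hh) (c₀' h hh) ≫ k₀ h hh
  have hGV : ∀ {V : C} (h : V ⟶ 𝒳.p.obj y) (hh : R h),
      𝒳.p.IsHomLift (𝟙 V) (G (y₀ h hh) (c₀' h hh)) := fun h hh =>
    lift_id_cast (lift_obj_eq h (k₀ h hh) (hk₀ h hh)) (hG (y₀ h hh) (c₀' h hh))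
  have main : ∀ {V W : C} (h : V ⟶ 𝒳.p.obj y) (hh : R h) (e : W ⟶ V) (a' a'' : 𝒳.obj)
      (α : a' ⟶ Φ.obj y) (hα : 𝒳.p.IsHomLift h α) (κ : a'' ⟶ a') (_ : 𝒳.p.IsHomLift e κ)
      (z : 𝒳.obj) (k : z ⟶ y) (_ : 𝒳.p.IsHomLift (e ≫ h) k) (c : z ⟶ x) (n : a'' ⟶ Φ.obj z)
      (_ : 𝒳.p.IsHomLift (𝟙 W) n) (_ : n ≫ Φ.map k = κ ≫ α) (m : Φ.obj z ⟶ z)
      (_ : 𝒳.p.IsHomLift (𝟙 (𝒳.p.obj z)) m) (_ : m ≫ c = Φ.map c ≫ g),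
      n ≫ m ≫ k = κ ≫ γ h hh a' α hα := by
    intro V W h hh e a' a'' α hα κ hκ z k hk c n hn hnk m hm hmc
    haveI := hk₀ h hh
    haveI := hα
    haveI := hκ
    haveI := hk
    haveI := hn
    haveI := hm₀ h hh a' α hα
    obtain ⟨j, ⟨hj, hjk⟩, -⟩ := StkGlue.existsUnique_fac hgr h e (k₀ h hh) k
    haveI := hj
    have hn' := G_natural h𝒳 hT Φ hx g hg hconj j (c₀' h hh) c (G _ _) (hG _ _) (hGc _ _) m hm hmc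
    haveI : 𝒳.p.IsHomLift e (Φ.map j) := BasedFunctor.preserves_isHomLift Φ _ _
    haveI : 𝒳.p.IsHomLift h (Φ.map (k₀ h hh)) := BasedFunctor.preserves_isHomLift Φ _ _
    have he : n ≫ Φ.map j = κ ≫ m₀ h hh a' α hα := by
      haveI : 𝒳.p.IsHomLift e (n ≫ Φ.map j) := IsHomLift.comp_lift_id_left 𝒳.p e (Φ.map j) n
      haveI : 𝒳.p.IsHomLift e (κ ≫ m₀ h hh a' α hα) := IsHomLift.comp_lift_id_right 𝒳.p e κ _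
      haveI := Fib.isStronglyCartesian_of_isFibGrpd 𝒳.p hgr h (Φ.map (k₀ h hh))
      refine IsStronglyCartesian.ext 𝒳.p h (Φ.map (k₀ h hh)) e ?_
      rw [Category.assoc, ← CategoryTheory.Functor.map_comp, hjk, hnk, Category.assoc,
        hm₀' h hh a' α hα]
    rw [← hjk, ← Category.assoc m, ← hn', ← Category.assoc n, ← Category.assoc n, he]
    simp only [γ, Category.assoc]
  obtain ⟨f, hf, hfγ⟩ := StkGlue.exists_glue (a := Φ.obj y) (b := y) hgr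
    ⟨(h𝒳.1.2 R hR).full, (h𝒳.1.2 R hR).faithful⟩ (Φ.w_obj y) rfl γ
    (fun V h hh a' α hα => by
      haveI := hm₀ h hh a' α hα
      haveI := hk₀ h hh
      haveI := hGV h hh
      simp only [γ]
      infer_instance)
    (fun W V e h hh hgh a'' a' κ α hκ hα hκα => by
      haveI := hκα
      exact main h hh e a' a'' α hα κ hκ _ (k₀ (e ≫ h) hgh) (hk₀ _ _) (c₀' _ _) _
        (hm₀ _ _ _ _ hκα) (hm₀' _ _ _ _ hκα) _ (hG _ _) (hGc _ _))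
  refine ⟨f, hf, fun y' k c m hm hmc => ?_⟩
  haveI := hm
  haveI : 𝒳.p.IsHomLift (𝒳.p.map k) k := IsHomLift.map 𝒳.p k
  haveI hΦk : 𝒳.p.IsHomLift (𝒳.p.map k) (Φ.map k) := BasedFunctor.preserves_isHomLift Φ _ _
  haveI := hf
  haveI : 𝒳.p.IsHomLift (𝒳.p.map k) (Φ.map k ≫ f) :=
    IsHomLift.comp_lift_id_right 𝒳.p _ (Φ.map k) f
  haveI : 𝒳.p.IsHomLift (𝒳.p.map k) (m ≫ k) := IsHomLift.comp_lift_id_left 𝒳.p _ k m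
  haveI := Fib.isStronglyCartesian_of_isFibGrpd 𝒳.p hgr (𝒳.p.map k) k
  haveI : 𝒳.p.IsHomLift (𝟙 (𝒳.p.obj y') ≫ 𝒳.p.map k) (Φ.map k ≫ f) := by
    rw [Category.id_comp]; infer_instance
  obtain ⟨l, ⟨hl, hlk⟩, -⟩ :=
    StkGlue.existsUnique_fac hgr (𝒳.p.map k) (𝟙 (𝒳.p.obj y')) k (Φ.map k ≫ f)
  suffices l = m by rw [← hlk, this]
  have hJ : R.pullback (𝒳.p.map k) ∈ J (𝒳.p.obj y') := J.pullback_stable _ hR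
  refine StkGlue.hom_ext hgr ⟨(h𝒳.1.2 _ hJ).full, (h𝒳.1.2 _ hJ).faithful⟩ l m hl hm
    fun V e he => ?_
  obtain ⟨w, j, hj⟩ := StkGlue.exists_lift_at hgr (rfl : 𝒳.p.obj y' = _) e
  haveI := hj
  haveI hΦj : 𝒳.p.IsHomLift e (Φ.map j) := BasedFunctor.preserves_isHomLift Φ _ _
  refine ⟨Φ.obj w, Φ.map j, hΦj, ?_⟩
  haveI := hl
  haveI : 𝒳.p.IsHomLift e (Φ.map j ≫ l) := IsHomLift.comp_lift_id_right 𝒳.p _ (Φ.map j) l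
  haveI : 𝒳.p.IsHomLift e (Φ.map j ≫ m) := IsHomLift.comp_lift_id_right 𝒳.p _ (Φ.map j) m
  refine IsStronglyCartesian.ext 𝒳.p (𝒳.p.map k) k e ?_
  have hjk : 𝒳.p.IsHomLift (e ≫ 𝒳.p.map k) (j ≫ k) := inferInstance
  have hΦjk : 𝒳.p.IsHomLift (e ≫ 𝒳.p.map k) (Φ.map j ≫ Φ.map k) := inferInstance
  rw [Category.assoc, Category.assoc, hlk, ← Category.assoc, hfγ (e ≫ 𝒳.p.map k) he _ _ hΦjk]
  obtain ⟨m'', hm'', hmc''⟩ := exists_G h𝒳 Φ g hg (j ≫ c)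
  have hn' := G_natural h𝒳 hT Φ hx g hg hconj j c (j ≫ c) m hm hmc m'' hm'' hmc''
  rw [← Category.assoc (Φ.map j), hn', Category.assoc]
  have hw : 𝒳.p.obj w = V := IsHomLift.domain_eq 𝒳.p e j
  have hid : 𝒳.p.IsHomLift (𝟙 V) (𝟙 (Φ.obj w)) := IsHomLift.id ((Φ.w_obj w).trans hw)
  haveI : 𝒳.p.IsHomLift (𝟙 V) (𝟙 (Φ.obj w)) := hid
  haveI : 𝒳.p.IsHomLift (𝟙 V ≫ e ≫ 𝒳.p.map k) (j ≫ k) := by rw [Category.id_comp]; exact hjk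
  have h5 := main (e ≫ 𝒳.p.map k) he (𝟙 V) _ _ (Φ.map j ≫ Φ.map k) hΦjk (𝟙 _) hid w (j ≫ k)
    ‹_› (j ≫ c) (𝟙 _) hid (by rw [Category.id_comp, Category.id_comp, CategoryTheory.Functor.map_comp])
    m'' hm'' hmc''
  rw [Category.id_comp, Category.id_comp] at h5
  exact h5.symm

theorem exists_natIso : ∃ ρ : ∀ y : 𝒳.obj, Φ.obj y ⟶ y,
    (∀ y, IsIso (ρ y) ∧ 𝒳.p.IsHomLift (𝟙 (𝒳.p.obj y)) (ρ y)) ∧
      ∀ (y y' : 𝒳.obj) (f : y ⟶ y'), Φ.map f ≫ ρ y' = ρ y ≫ f := by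
  have hgr := h𝒳.1.1
  choose ρ hρ hρ' using exists_rho h𝒳 hT t Φ hx g hg hconj
  refine ⟨ρ, fun y => ⟨haveI := hρ y; Fib.isIso_of_isHomLift 𝒳.p hgr (𝟙 (𝒳.p.obj y)) (ρ y), hρ y⟩,
    fun y y' f => ?_⟩
  haveI := hρ y
  haveI := hρ y'
  haveI : 𝒳.p.IsHomLift (𝒳.p.map f) f := IsHomLift.map 𝒳.p f
  haveI : 𝒳.p.IsHomLift (𝒳.p.map f) (Φ.map f) := BasedFunctor.preserves_isHomLift Φ _ _
  haveI : 𝒳.p.IsHomLift (𝒳.p.map f) (Φ.map f ≫ ρ y') :=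
    IsHomLift.comp_lift_id_right 𝒳.p _ (Φ.map f) (ρ y')
  haveI : 𝒳.p.IsHomLift (𝟙 (𝒳.p.obj y) ≫ 𝒳.p.map f) (Φ.map f ≫ ρ y') := by
    rw [Category.id_comp]; infer_instance
  obtain ⟨l, ⟨hl, hlf⟩, -⟩ :=
    StkGlue.existsUnique_fac hgr (𝒳.p.map f) (𝟙 (𝒳.p.obj y)) f (Φ.map f ≫ ρ y')
  suffices l = ρ y by rw [← hlf, this]
  obtain ⟨R, hR, hR'⟩ := locally_to h𝒳 t hx (rfl : 𝒳.p.obj y = _)
  refine StkGlue.hom_ext hgr ⟨(h𝒳.1.2 R hR).full, (h𝒳.1.2 R hR).faithful⟩ l (ρ y) hl (hρ y)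
    fun V e he => ?_
  obtain ⟨w, k, hk, ⟨c⟩⟩ := hR' e he
  haveI := hk
  haveI hΦk : 𝒳.p.IsHomLift e (Φ.map k) := BasedFunctor.preserves_isHomLift Φ _ _
  refine ⟨Φ.obj w, Φ.map k, hΦk, ?_⟩
  haveI := hl
  haveI : 𝒳.p.IsHomLift e (Φ.map k ≫ l) := IsHomLift.comp_lift_id_right 𝒳.p _ (Φ.map k) l
  haveI : 𝒳.p.IsHomLift e (Φ.map k ≫ ρ y) := IsHomLift.comp_lift_id_right 𝒳.p _ (Φ.map k) (ρ y)
  haveI := Fib.isStronglyCartesian_of_isFibGrpd 𝒳.p hgr (𝒳.p.map f) f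
  refine IsStronglyCartesian.ext 𝒳.p (𝒳.p.map f) f e ?_
  obtain ⟨m, hm, hmc⟩ := exists_G h𝒳 Φ g hg c
  rw [Category.assoc, hlf, hρ' y w k c m hm hmc, ← Category.assoc, ← CategoryTheory.Functor.map_comp,
    hρ' y' w (k ≫ f) c m hm hmc, Category.assoc]

end Extend

end GerbA
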