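import Mathlib.CategoryTheory.Sites.Sheaf
import Mathlib.Algebra.Category.Grp.Limits
import Mathlib.Algebra.Category.Grp.ForgetCorepresentable
import Groth.Agent.GerbA.Local

/-!
# The band of a gerbe with commutative automorphism groups
-/

set_option autoImplicit false
set_option maxHeartbeats 400000
set_option linter.style.haveILetI false
set_option linter.unusedSectionVars false
set_option backward.isDefEq.respectTransparency false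
set_option backward.isDefEq.respectTransparency.types false

open CategoryTheory CategoryTheory.Functor Opposite
open Groth.Agent

universe v u

namespace GerbA.Band

noncomputable section

variable {C : Type u} [Category.{v} C] {J : GrothendieckTopology C}
  (𝒮 : BasedCategory.{v, max u v} C)

/-- natural families of automorphisms of the objects above `U` -/
def famSub (U : C) : Subgroup (∀ (x : 𝒮.obj), (𝒮.p.obj x ⟶ U) → Gerb.AutO x) where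
  carrier := {a | ∀ ⦃x' x : 𝒮.obj⦄ (φ : x' ⟶ x) (h : 𝒮.p.obj x ⟶ U),
    (a x' (𝒮.p.map φ ≫ h)).hom.1 ≫ φ = φ ≫ (a x h).hom.1}
  one_mem' := fun x' x φ h => (Category.id_comp φ).trans (Category.comp_id φ).symm
  mul_mem' := fun {a b} ha hb x' x φ h => by
    change ((b x' (𝒮.p.map φ ≫ h)).hom.1 ≫ (a x' (𝒮.p.map φ ≫ h)).hom.1) ≫ φ =
      φ ≫ (b x h).hom.1 ≫ (a x h).hom.1
    rw [Category.assoc, ha φ h, ← Category.assoc, hb φ h, Category.assoc]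
  inv_mem' := fun {a} ha x' x φ h => by
    change (a x' (𝒮.p.map φ ≫ h)).inv.1 ≫ φ = φ ≫ (a x h).inv.1
    have e1 : (a x' (𝒮.p.map φ ≫ h)).inv.1 ≫ (a x' (𝒮.p.map φ ≫ h)).hom.1 = 𝟙 x' :=
      congrArg Subtype.val (a x' (𝒮.p.map φ ≫ h)).inv_hom_id
    have e2 : (a x h).hom.1 ≫ (a x h).inv.1 = 𝟙 x := congrArg Subtype.val (a x h).hom_inv_id
    calc (a x' (𝒮.p.map φ ≫ h)).inv.1 ≫ φ
        = (a x' (𝒮.p.map φ ≫ h)).inv.1 ≫ (φ ≫ (a x h).hom.1) ≫ (a x h).inv.1 := by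
          rw [Category.assoc φ, e2, Category.comp_id]
      _ = φ ≫ (a x h).inv.1 := by
          rw [← ha φ h, ← Category.assoc, ← Category.assoc, e1, Category.id_comp]

/-- restriction -/
def res {U V : C} (g : V ⟶ U) : famSub 𝒮 U →* famSub 𝒮 V where
  toFun a := ⟨fun x h => a.1 x (h ≫ g), fun x' x φ h => by
    have := a.2 φ (h ≫ g)
    rwa [← Category.assoc] at this⟩
  map_one' := rfl
  map_mul' _ _ := rfl

/-- the presheaf of groups -/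
def G : Cᵒᵖ ⥤ GrpCat.{max u v} where
  obj U := GrpCat.of (famSub 𝒮 U.unop)
  map g := GrpCat.ofHom (res 𝒮 g.unop)
  map_id U := by
    apply GrpCat.hom_ext
    apply MonoidHom.ext
    intro (a : famSub 𝒮 U.unop)
    apply Subtype.ext
    funext x h
    exact congrArg (a.1 x) (Category.comp_id h)
  map_comp {U V W} g k := by
    apply GrpCat.hom_ext
    apply MonoidHom.ext
    intro (a : famSub 𝒮 U.unop)
    apply Subtype.ext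
    funext x h
    exact congrArg (a.1 x) (Category.assoc h k.unop g.unop).symm

theorem val_congr {U : C} (a : famSub 𝒮 U) (x : 𝒮.obj) {h h' : 𝒮.p.obj x ⟶ U} (e : h = h') :
    a.1 x h = a.1 x h' := congrArg (a.1 x) e

theorem autO_ext {x : 𝒮.obj} {a b : Gerb.AutO x} (h : a.hom.1 = b.hom.1) : a = b :=
  Aut.ext (Fiber.hom_ext h)

variable (hS : Gerb.IsGerbe J 𝒮)
include hS

theorem exists_autO {y : 𝒮.obj} {β : y ⟶ y} (hβ : 𝒮.p.IsHomLift (𝟙 (𝒮.p.obj y)) β) :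
    ∃ b : Gerb.AutO y, b.hom.1 = β := by
  haveI := hβ
  haveI : IsIso β := Fib.isIso_of_isHomLift 𝒮.p hS.1.1 (𝟙 (𝒮.p.obj y)) β
  exact ⟨Fib.fiberIso 𝒮.p (asIso β) hβ, rfl⟩

theorem isPrestackFor {U : C} (R : Sieve U) (hR : R ∈ J U) : Stk.IsPrestackFor R 𝒮 :=
  ⟨(hS.1.2 R hR).full, (hS.1.2 R hR).faithful⟩

theorem exists_amalg {U : C} (R : Sieve U) (hR : R ∈ J U)
    (s : ∀ ⦃V : C⦄ (g : V ⟶ U), R g → famSub 𝒮 V)
    (hs : ∀ ⦃W V : C⦄ (e : W ⟶ V) (g : V ⟶ U) (hg : R g) (heg : R (e ≫ g)),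
      res 𝒮 e (s g hg) = s (e ≫ g) heg) :
    ∃! a : famSub 𝒮 U, ∀ ⦃V : C⦄ (g : V ⟶ U) (hg : R g), res 𝒮 g a = s g hg := by
  have hgr := hS.1.1
  have scongr : ∀ {V : C} {g g' : V ⟶ U} (_ : g = g') (hg : R g) (hg' : R g'), s g hg = s g' hg' := by
    intro V g g' e hg hg'
    subst e
    rfl
  have hfac : ∀ {W : C} {y y' : 𝒮.obj} (e : W ⟶ 𝒮.p.obj y) (k : y' ⟶ y),
      𝒮.p.IsHomLift e k → 𝒮.p.obj y' = W := fun e k h => IsHomLift.domain_eq 𝒮.p e k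
  have hex : ∀ (y : 𝒮.obj) (h : 𝒮.p.obj y ⟶ U), ∃ β : y ⟶ y, 𝒮.p.IsHomLift (𝟙 (𝒮.p.obj y)) β ∧
      ∀ ⦃W : C⦄ (e : W ⟶ 𝒮.p.obj y) (he : R (e ≫ h)) (y' : 𝒮.obj) (k : y' ⟶ y)
        (hk : 𝒮.p.IsHomLift e k),
        k ≫ β = ((s (e ≫ h) he).1 y' (eqToHom (hfac e k hk))).hom.1 ≫ k := by
    intro y h
    have hJ : R.pullback h ∈ J (𝒮.p.obj y) := J.pullback_stable h hR
    obtain ⟨β, hβ, hβ'⟩ := StkGlue.exists_glue (a := y) (b := y) hgr (isPrestackFor 𝒮 hS _ hJ) rfl rfl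
      (fun W e he y' k hk => ((s (e ≫ h) he).1 y' (eqToHom (hfac e k hk))).hom.1 ≫ k)
      (fun W e he y' k hk => by
        haveI := hk
        haveI : 𝒮.p.IsHomLift (𝟙 W) ((s (e ≫ h) he).1 y' (eqToHom (hfac e k hk))).hom.1 :=
          GerbA.lift_id_cast (hfac e k hk) ((s (e ≫ h) he).1 y' (eqToHom (hfac e k hk))).hom.2
        exact IsHomLift.comp_lift_id_left 𝒮.p e k _)
      (fun W V g e he hge y'' y' κ k hκ hk hκk => by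
        haveI := hκ
        haveI := hk
        have hnat := (s (e ≫ h) he).2 κ (eqToHom (hfac e k hk))
        have hbase : 𝒮.p.map κ ≫ eqToHom (hfac e k hk) = eqToHom (hfac (g ≫ e) (κ ≫ k) hκk) ≫ g := by
          rw [IsHomLift.fac' 𝒮.p g κ]
          simp
        have hval : (s ((g ≫ e) ≫ h) hge).1 y'' (eqToHom (hfac (g ≫ e) (κ ≫ k) hκk)) =
            (s (e ≫ h) he).1 y'' (𝒮.p.map κ ≫ eqToHom (hfac e k hk)) := by
          rw [hbase, scongr (Category.assoc g e h) hge (R.downward_closed he g),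
            ← hs g (e ≫ h) he (R.downward_closed he g)]
          rfl
        change ((s ((g ≫ e) ≫ h) hge).1 y'' (eqToHom (hfac (g ≫ e) (κ ≫ k) hκk))).hom.1 ≫ κ ≫ k = _
        rw [hval, ← Category.assoc, hnat, Category.assoc])
    exact ⟨β, hβ, fun W e he y' k hk => hβ' e he y' k hk⟩
  choose β hβ hβ' using hex
  choose b hb using fun (y : 𝒮.obj) (h : 𝒮.p.obj y ⟶ U) => exists_autO 𝒮 hS (hβ y h)
  have hmem : b ∈ famSub 𝒮 U := by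
    intro y' y φ h
    rw [hb, hb]
    have hJ : R.pullback (𝒮.p.map φ ≫ h) ∈ J (𝒮.p.obj y') := J.pullback_stable _ hR
    haveI := hβ y' (𝒮.p.map φ ≫ h)
    haveI := hβ y h
    haveI : 𝒮.p.IsHomLift (𝒮.p.map φ) φ := IsHomLift.map 𝒮.p φ
    haveI : 𝒮.p.IsHomLift (𝒮.p.map φ) (φ ≫ β y h) := IsHomLift.comp_lift_id_right 𝒮.p _ φ (β y h)
    haveI : 𝒮.p.IsHomLift (𝟙 (𝒮.p.obj y') ≫ 𝒮.p.map φ) (φ ≫ β y h) := by
      rw [Category.id_comp]; infer_instance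
    obtain ⟨l, ⟨hl, hlφ⟩, -⟩ :=
      StkGlue.existsUnique_fac hgr (𝒮.p.map φ) (𝟙 (𝒮.p.obj y')) φ (φ ≫ β y h)
    suffices β y' (𝒮.p.map φ ≫ h) = l by rw [this, hlφ]
    refine StkGlue.hom_ext hgr (isPrestackFor 𝒮 hS _ hJ) _ l (hβ _ _) hl fun W e he => ?_
    obtain ⟨w, k, hk⟩ := StkGlue.exists_lift_at hgr (rfl : 𝒮.p.obj y' = _) e
    haveI := hk
    refine ⟨w, k, hk, ?_⟩
    haveI := hl
    haveI : 𝒮.p.IsHomLift e (k ≫ β y' (𝒮.p.map φ ≫ h)) := IsHomLift.comp_lift_id_right 𝒮.p e k _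
    haveI : 𝒮.p.IsHomLift e (k ≫ l) := IsHomLift.comp_lift_id_right 𝒮.p e k l
    haveI := Fib.isStronglyCartesian_of_isFibGrpd 𝒮.p hgr (𝒮.p.map φ) φ
    refine IsStronglyCartesian.ext 𝒮.p (𝒮.p.map φ) φ e ?_
    have hkφ : 𝒮.p.IsHomLift (e ≫ 𝒮.p.map φ) (k ≫ φ) := inferInstance
    have he' : R ((e ≫ 𝒮.p.map φ) ≫ h) := (Category.assoc e (𝒮.p.map φ) h).symm ▸ he
    rw [hβ' y' _ e he w k hk, Category.assoc k l, hlφ, ← Category.assoc k φ,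
      hβ' y h (e ≫ 𝒮.p.map φ) he' w (k ≫ φ) hkφ, Category.assoc,
      scongr (Category.assoc e (𝒮.p.map φ) h) he' he]
  refine ⟨⟨b, hmem⟩, fun V g hg => ?_, fun a ha => ?_⟩
  · apply Subtype.ext
    funext y h
    apply autO_ext 𝒮
    change (b y (h ≫ g)).hom.1 = _
    rw [hb]
    have hid : 𝒮.p.IsHomLift (𝟙 (𝒮.p.obj y)) (𝟙 y) := IsHomLift.id rfl
    have he : R (𝟙 (𝒮.p.obj y) ≫ h ≫ g) := by
      rw [Category.id_comp]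
      exact R.downward_closed hg h
    have h1 := hβ' y (h ≫ g) (𝟙 _) he y (𝟙 y) hid
    rw [Category.id_comp, Category.comp_id] at h1
    rw [h1, scongr (Category.id_comp (h ≫ g)) he (R.downward_closed hg h),
      ← hs h g hg (R.downward_closed hg h)]
    exact congrArg (fun t => t.hom.1) (val_congr 𝒮 (s g hg) y (Category.id_comp h))
  · apply Subtype.ext
    funext y h
    apply autO_ext 𝒮
    change (a.1 y h).hom.1 = (b y h).hom.1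
    rw [hb]
    have hJ : R.pullback h ∈ J (𝒮.p.obj y) := J.pullback_stable h hR
    refine StkGlue.hom_ext hgr (isPrestackFor 𝒮 hS _ hJ) _ _ (a.1 y h).hom.2 (hβ _ _) fun W e he => ?_
    obtain ⟨w, k, hk⟩ := StkGlue.exists_lift_at hgr (rfl : 𝒮.p.obj y = _) e
    haveI := hk
    refine ⟨w, k, hk, ?_⟩
    rw [hβ' y h e he w k hk, ← a.2 k h, ← ha (e ≫ h) he]
    have hb' : 𝒮.p.map k ≫ h = eqToHom (hfac e k hk) ≫ e ≫ h := by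
      rw [IsHomLift.fac' 𝒮.p e k]
      simp
    rw [val_congr 𝒮 a w hb']
    rfl

theorem isSheaf : Presheaf.IsSheaf J (G 𝒮) := by
  rw [Presheaf.isSheaf_iff_isSheaf_forget J (G 𝒮) (CategoryTheory.forget GrpCat.{max u v}),
    isSheaf_iff_isSheaf_of_type]
  intro U R hR fam hfam
  have hs : ∀ ⦃W V : C⦄ (e : W ⟶ V) (g : V ⟶ U) (hg : R g) (heg : R (e ≫ g)),
      res 𝒮 e (fam g hg) = fam (e ≫ g) heg := by
    intro W V e g hg heg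
    have h := hfam e (𝟙 W) (f₁ := g) (f₂ := e ≫ g) hg heg (by simp)
    refine (h : res 𝒮 e (fam g hg) = res 𝒮 (𝟙 W) (fam (e ≫ g) heg)).trans ?_
    apply Subtype.ext
    funext x k
    exact congrArg ((fam (e ≫ g) heg : famSub 𝒮 W).1 x) (Category.comp_id k)
  obtain ⟨a, ha, hau⟩ := exists_amalg 𝒮 hS R hR (fun V g hg => fam g hg) hs
  exact ⟨a, fun V g hg => ha g hg, fun a' ha' => hau a' fun V g hg => ha' g hg⟩

variable (hcomm : ∀ (x : 𝒮.obj) (α β : Gerb.AutO x), α * β = β * α)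

theorem G_comm (hc : ∀ (x : 𝒮.obj) (α β : Gerb.AutO x), α * β = β * α) (U : C) (a b : famSub 𝒮 U) :
    a * b = b * a := by
  apply Subtype.ext
  funext x h
  exact hc x _ _

theorem eval_injective {x : 𝒮.obj} {a b : famSub 𝒮 (𝒮.p.obj x)}
    (e : a.1 x (𝟙 _) = b.1 x (𝟙 _)) : a = b := by
  have hgr := hS.1.1
  apply Subtype.ext
  funext y h
  apply autO_ext 𝒮
  obtain ⟨x', χ, hχ⟩ := StkGlue.exists_lift_at hgr (rfl : 𝒮.p.obj x = _) h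
  obtain ⟨R, hR, hR'⟩ := locally_iso hS (rfl : 𝒮.p.obj y = _) (IsHomLift.domain_eq 𝒮.p h χ)
  refine StkGlue.hom_ext hgr (isPrestackFor 𝒮 hS R hR) _ _ (a.1 y h).hom.2 (b.1 y h).hom.2
    fun W ε hε => ?_
  obtain ⟨w, k, ψ, hk, hψ⟩ := hR' ε hε
  haveI := hk
  haveI := hψ
  haveI := hχ
  refine ⟨w, k, hk, ?_⟩
  have hw : 𝒮.p.obj w = W := IsHomLift.domain_eq 𝒮.p ε k
  subst hw
  rw [← a.2 k h, ← b.2 k h]
  have hm : 𝒮.p.map k ≫ h = 𝒮.p.map (ψ ≫ χ) ≫ 𝟙 _ := by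
    rw [Category.comp_id, IsHomLift.fac' 𝒮.p (ε ≫ h) (ψ ≫ χ), IsHomLift.fac' 𝒮.p ε k]
    simp
  rw [val_congr 𝒮 a w hm, val_congr 𝒮 b w hm]
  have ha := a.2 (ψ ≫ χ) (𝟙 _)
  have hb := b.2 (ψ ≫ χ) (𝟙 _)
  rw [e, ← hb] at ha
  refine congrArg (· ≫ k) ?_
  haveI := (a.1 w (𝒮.p.map (ψ ≫ χ) ≫ 𝟙 _)).hom.2
  haveI := (b.1 w (𝒮.p.map (ψ ≫ χ) ≫ 𝟙 _)).hom.2
  haveI : 𝒮.p.IsHomLift (ε ≫ h) (ψ ≫ χ) := inferInstance
  haveI := Fib.isStronglyCartesian_of_isFibGrpd 𝒮.p hgr (ε ≫ h) (ψ ≫ χ)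
  exact IsStronglyCartesian.ext 𝒮.p (ε ≫ h) (ψ ≫ χ) (𝟙 (𝒮.p.obj w)) ha

/-- the transfer of `α` to an object mapping to `x` -/
theorem exists_transfer {x : 𝒮.obj} (α : Gerb.AutO x) {y : 𝒮.obj} (m : y ⟶ x) :
    ∃ i : Gerb.AutO y, i.hom.1 ≫ m = m ≫ α.hom.1 := by
  have hgr := hS.1.1
  haveI : 𝒮.p.IsHomLift (𝒮.p.map m) m := IsHomLift.map 𝒮.p m
  haveI := α.hom.2
  haveI : 𝒮.p.IsHomLift (𝒮.p.map m) (m ≫ α.hom.1) := IsHomLift.comp_lift_id_right 𝒮.p _ m α.hom.1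
  haveI : 𝒮.p.IsHomLift (𝟙 (𝒮.p.obj y) ≫ 𝒮.p.map m) (m ≫ α.hom.1) := by
    rw [Category.id_comp]; infer_instance
  obtain ⟨i, ⟨hi, him⟩, -⟩ :=
    StkGlue.existsUnique_fac hgr (𝒮.p.map m) (𝟙 (𝒮.p.obj y)) m (m ≫ α.hom.1)
  obtain ⟨i', hi'⟩ := exists_autO 𝒮 hS hi
  exact ⟨i', by rw [hi', him]⟩

include hcomm

theorem transfer_compat {x : 𝒮.obj} (α : Gerb.AutO x) {y y' : 𝒮.obj} (l : y' ⟶ y) (m : y ⟶ x)
    (m' : y' ⟶ x) (hb : 𝒮.p.map m' = 𝒮.p.map l ≫ 𝒮.p.map m)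
    (i : Gerb.AutO y) (hi : i.hom.1 ≫ m = m ≫ α.hom.1)
    (i' : Gerb.AutO y') (hi' : i'.hom.1 ≫ m' = m' ≫ α.hom.1) :
    i'.hom.1 ≫ l = l ≫ i.hom.1 := by
  have hgr := hS.1.1
  haveI : 𝒮.p.IsHomLift (𝒮.p.map m') m' := IsHomLift.map 𝒮.p m'
  haveI : 𝒮.p.IsHomLift (𝒮.p.map m) m := IsHomLift.map 𝒮.p m
  haveI : 𝒮.p.IsHomLift (𝒮.p.map l) l := IsHomLift.map 𝒮.p l
  haveI : 𝒮.p.IsHomLift (𝟙 (𝒮.p.obj y') ≫ 𝒮.p.map m') (l ≫ m) := by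
    rw [Category.id_comp, hb]; infer_instance
  obtain ⟨j, ⟨hj, hjm⟩, -⟩ :=
    StkGlue.existsUnique_fac hgr (𝒮.p.map m') (𝟙 (𝒮.p.obj y')) m' (l ≫ m)
  obtain ⟨j', hj'⟩ := exists_autO 𝒮 hS hj
  have hc : i'.hom.1 ≫ j = j ≫ i'.hom.1 := by
    rw [← hj']
    exact congrArg (fun t : Gerb.AutO y' => t.hom.1) (hcomm y' j' i')
  haveI := i'.hom.2
  haveI := i.hom.2
  haveI : 𝒮.p.IsHomLift (𝒮.p.map l) (i'.hom.1 ≫ l) :=
    IsHomLift.comp_lift_id_left 𝒮.p _ l i'.hom.1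
  haveI : 𝒮.p.IsHomLift (𝒮.p.map l) (l ≫ i.hom.1) :=
    IsHomLift.comp_lift_id_right 𝒮.p _ l i.hom.1
  haveI := Fib.isStronglyCartesian_of_isFibGrpd 𝒮.p hgr (𝒮.p.map m) m
  refine IsStronglyCartesian.ext 𝒮.p (𝒮.p.map m) m (𝒮.p.map l) ?_
  rw [Category.assoc, Category.assoc, hi, ← hjm, ← Category.assoc, hc, Category.assoc, hi',
    ← Category.assoc l, ← hjm, Category.assoc]

theorem exists_extension {x : 𝒮.obj} (α : Gerb.AutO x) (y : 𝒮.obj) (h : 𝒮.p.obj y ⟶ 𝒮.p.obj x) :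
    ∃ β : Gerb.AutO y, ∀ (y' : 𝒮.obj) (k : y' ⟶ y) (m : y' ⟶ x),
      𝒮.p.map m = 𝒮.p.map k ≫ h → ∀ i : Gerb.AutO y', i.hom.1 ≫ m = m ≫ α.hom.1 →
        k ≫ β.hom.1 = i.hom.1 ≫ k := by
  have hgr := hS.1.1
  let R : Sieve (𝒮.p.obj y) :=
    { arrows := fun W ε => ∀ (y' : 𝒮.obj) (k : y' ⟶ y), 𝒮.p.IsHomLift ε k →
        ∃ m : y' ⟶ x, 𝒮.p.map m = 𝒮.p.map k ≫ h
      downward_closed := fun {W V ε} hε g y'' k'' hk'' => by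
        haveI := hk''
        obtain ⟨y', k, hk⟩ := StkGlue.exists_lift_at hgr (rfl : 𝒮.p.obj y = _) ε
        haveI := hk
        obtain ⟨κ, ⟨hκ, hκk⟩, -⟩ := StkGlue.existsUnique_fac hgr ε g k k''
        obtain ⟨m, hm⟩ := hε y' k hk
        exact ⟨κ ≫ m, by rw [𝒮.p.map_comp, hm, ← Category.assoc, ← 𝒮.p.map_comp, hκk]⟩ }
  obtain ⟨x', χ, hχ⟩ := StkGlue.exists_lift_at hgr (rfl : 𝒮.p.obj x = _) h
  obtain ⟨R₀, hR₀, hR₀'⟩ := locally_iso hS (rfl : 𝒮.p.obj y = _) (IsHomLift.domain_eq 𝒮.p h χ)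
  have hR : R ∈ J (𝒮.p.obj y) := by
    refine J.superset_covering (fun W ε hε => ?_) hR₀
    intro y' k hk
    obtain ⟨w, k₀, ψ, hk₀, hψ⟩ := hR₀' ε hε
    haveI := hk
    haveI := hk₀
    haveI := hψ
    haveI := hχ
    haveI : 𝒮.p.IsHomLift (𝟙 W ≫ ε) k := by rw [Category.id_comp]; exact hk
    obtain ⟨ι, ⟨hι, -⟩, -⟩ := StkGlue.existsUnique_fac hgr ε (𝟙 W) k₀ k
    haveI := hι
    haveI : 𝒮.p.IsHomLift (𝟙 W ≫ ε ≫ h) (ι ≫ ψ ≫ χ) := inferInstance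
    refine ⟨ι ≫ ψ ≫ χ, ?_⟩
    rw [IsHomLift.fac' 𝒮.p (𝟙 W ≫ ε ≫ h) (ι ≫ ψ ≫ χ), IsHomLift.fac' 𝒮.p ε k]
    simp
  have hP : ∀ ⦃W : C⦄ (ε : W ⟶ 𝒮.p.obj y), R ε → ∀ (y' : 𝒮.obj) (k : y' ⟶ y),
      𝒮.p.IsHomLift ε k → ∃ m : y' ⟶ x, 𝒮.p.map m = 𝒮.p.map k ≫ h := fun W ε hε => hε
  choose m₀ hm₀ using hP
  choose tr htr using fun (y' : 𝒮.obj) (m : y' ⟶ x) => exists_transfer 𝒮 hS α m
  obtain ⟨β, hβ, hβ'⟩ := StkGlue.exists_glue (a := y) (b := y) hgr (isPrestackFor 𝒮 hS R hR) rfl rfl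
    (fun W ε hε y' k hk => (tr y' (m₀ ε hε y' k hk)).hom.1 ≫ k)
    (fun W ε hε y' k hk => by
      haveI := hk
      haveI : 𝒮.p.IsHomLift (𝟙 W) (tr y' (m₀ ε hε y' k hk)).hom.1 :=
        GerbA.lift_id_cast (IsHomLift.domain_eq 𝒮.p ε k) (tr y' (m₀ ε hε y' k hk)).hom.2
      exact IsHomLift.comp_lift_id_left 𝒮.p ε k _)
    (fun W V g ε hε hgε y'' y' κ k hκ hk hκk => by
      change (tr y'' (m₀ (g ≫ ε) hgε y'' (κ ≫ k) hκk)).hom.1 ≫ κ ≫ k = _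
      rw [← Category.assoc, transfer_compat 𝒮 hS hcomm α κ (m₀ ε hε y' k hk) _
        (by rw [hm₀, hm₀, 𝒮.p.map_comp, Category.assoc]) _ (htr _ _) _ (htr _ _), Category.assoc])
  obtain ⟨β', hβ₂⟩ := exists_autO 𝒮 hS hβ
  refine ⟨β', fun y' k m hm i hi => ?_⟩
  rw [hβ₂]
  haveI := hβ
  haveI := i.hom.2
  haveI : 𝒮.p.IsHomLift (𝒮.p.map k) k := IsHomLift.map 𝒮.p k
  haveI : 𝒮.p.IsHomLift (𝒮.p.map k) (k ≫ β) := IsHomLift.comp_lift_id_right 𝒮.p _ k β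
  haveI : 𝒮.p.IsHomLift (𝟙 (𝒮.p.obj y') ≫ 𝒮.p.map k) (k ≫ β) := by
    rw [Category.id_comp]; infer_instance
  obtain ⟨l, ⟨hl, hlk⟩, -⟩ :=
    StkGlue.existsUnique_fac hgr (𝒮.p.map k) (𝟙 (𝒮.p.obj y')) k (k ≫ β)
  suffices l = i.hom.1 by rw [← hlk, this]
  have hJ : R.pullback (𝒮.p.map k) ∈ J (𝒮.p.obj y') := J.pullback_stable _ hR
  refine StkGlue.hom_ext hgr (isPrestackFor 𝒮 hS _ hJ) l i.hom.1 hl i.hom.2 fun W e he => ?_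
  obtain ⟨w, j, hj⟩ := StkGlue.exists_lift_at hgr (rfl : 𝒮.p.obj y' = _) e
  haveI := hj
  haveI := hl
  refine ⟨w, j, hj, ?_⟩
  haveI : 𝒮.p.IsHomLift e (j ≫ l) := IsHomLift.comp_lift_id_right 𝒮.p e j l
  haveI : 𝒮.p.IsHomLift e (j ≫ i.hom.1) := IsHomLift.comp_lift_id_right 𝒮.p e j i.hom.1
  haveI := Fib.isStronglyCartesian_of_isFibGrpd 𝒮.p hgr (𝒮.p.map k) k
  refine IsStronglyCartesian.ext 𝒮.p (𝒮.p.map k) k e ?_
  have hjk : 𝒮.p.IsHomLift (e ≫ 𝒮.p.map k) (j ≫ k) := inferInstance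
  rw [Category.assoc, hlk, ← Category.assoc, hβ' (e ≫ 𝒮.p.map k) he w (j ≫ k) hjk, ← Category.assoc]
  refine congrArg (· ≫ k) ?_
  refine transfer_compat 𝒮 hS hcomm α j m _ ?_ i hi _ (htr _ _)
  rw [hm₀, 𝒮.p.map_comp, Category.assoc, hm]

theorem eval_surjective {x : 𝒮.obj} (α : Gerb.AutO x) :
    ∃ a : famSub 𝒮 (𝒮.p.obj x), a.1 x (𝟙 _) = α := by
  have hgr := hS.1.1
  choose b hb using exists_extension 𝒮 hS hcomm α
  refine ⟨⟨b, fun y' y φ h => ?_⟩, autO_ext 𝒮 ?_⟩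
  · haveI : 𝒮.p.IsHomLift (𝒮.p.map φ) φ := IsHomLift.map 𝒮.p φ
    haveI := (b y h).hom.2
    haveI : 𝒮.p.IsHomLift (𝒮.p.map φ) (φ ≫ (b y h).hom.1) :=
      IsHomLift.comp_lift_id_right 𝒮.p _ φ _
    haveI : 𝒮.p.IsHomLift (𝟙 (𝒮.p.obj y') ≫ 𝒮.p.map φ) (φ ≫ (b y h).hom.1) := by
      rw [Category.id_comp]; infer_instance
    obtain ⟨l, ⟨hl, hlφ⟩, -⟩ :=
      StkGlue.existsUnique_fac hgr (𝒮.p.map φ) (𝟙 (𝒮.p.obj y')) φ (φ ≫ (b y h).hom.1)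
    suffices l = (b y' (𝒮.p.map φ ≫ h)).hom.1 by rw [← this, hlφ]
    obtain ⟨x', χ, hχ⟩ := StkGlue.exists_lift_at hgr (rfl : 𝒮.p.obj x = _) (𝒮.p.map φ ≫ h)
    obtain ⟨R, hR, hR'⟩ := locally_iso hS (rfl : 𝒮.p.obj y' = _)
      (IsHomLift.domain_eq 𝒮.p (𝒮.p.map φ ≫ h) χ)
    refine StkGlue.hom_ext hgr (isPrestackFor 𝒮 hS R hR) l _ hl (b y' (𝒮.p.map φ ≫ h)).hom.2
      fun W e he => ?_
    obtain ⟨w, k, ψ, hk, hψ⟩ := hR' e he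
    haveI := hk
    haveI := hψ
    haveI := hχ
    haveI := hl
    refine ⟨w, k, hk, ?_⟩
    obtain ⟨i, hi⟩ := exists_transfer 𝒮 hS α (ψ ≫ χ)
    have hm : 𝒮.p.map (ψ ≫ χ) = 𝒮.p.map k ≫ 𝒮.p.map φ ≫ h := by
      rw [IsHomLift.fac' 𝒮.p (e ≫ 𝒮.p.map φ ≫ h) (ψ ≫ χ), IsHomLift.fac' 𝒮.p e k]
      simp
    haveI := (b y' (𝒮.p.map φ ≫ h)).hom.2
    haveI : 𝒮.p.IsHomLift e (k ≫ l) := IsHomLift.comp_lift_id_right 𝒮.p e k l
    haveI : 𝒮.p.IsHomLift e (k ≫ (b y' (𝒮.p.map φ ≫ h)).hom.1) :=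
      IsHomLift.comp_lift_id_right 𝒮.p e k _
    haveI := Fib.isStronglyCartesian_of_isFibGrpd 𝒮.p hgr (𝒮.p.map φ) φ
    refine IsStronglyCartesian.ext 𝒮.p (𝒮.p.map φ) φ e ?_
    rw [Category.assoc, hlφ, hb y' _ w k (ψ ≫ χ) hm i hi, ← Category.assoc,
      hb y h w (k ≫ φ) (ψ ≫ χ) (by rw [hm, 𝒮.p.map_comp, Category.assoc]) i hi, Category.assoc]
  · have h1 := hb x (𝟙 _) x (𝟙 x) (𝟙 x) (by rw [Category.comp_id]) α (by
      rw [Category.comp_id, Category.id_comp])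
    rw [Category.id_comp, Category.comp_id] at h1
    exact h1

theorem exists_banding : ∃ G' : Sheaf J GrpCat.{max u v},
    (∀ (U : C) (a b : G'.obj.obj (op U)), a * b = b * a) ∧ Nonempty (Gerb.Banding 𝒮 G'.obj) := by
  refine ⟨⟨G 𝒮, isSheaf 𝒮 hS⟩, fun U a b => G_comm 𝒮 hS hcomm U a b, ⟨?_⟩⟩
  let ev : ∀ x : 𝒮.obj, famSub 𝒮 (𝒮.p.obj x) →* Gerb.AutO x := fun x =>
    { toFun := fun a => a.1 x (𝟙 _)
      map_one' := rfl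
      map_mul' := fun _ _ => rfl }
  exact
    { iso := fun x => MulEquiv.ofBijective (ev x)
        ⟨fun a b e => eval_injective 𝒮 hS e, fun α => eval_surjective 𝒮 hS hcomm α⟩
      natural := fun {x' x} φ a => by
        change (a.1 x' (𝟙 _ ≫ 𝒮.p.map φ)).hom.1 ≫ φ = φ ≫ (a.1 x (𝟙 _)).hom.1
        rw [← a.2 φ (𝟙 _)]
        exact congrArg (fun t => (a.1 x' t).hom.1 ≫ φ) (by rw [Category.id_comp, Category.comp_id]) }

end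

end GerbA.Band
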