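import Groth.Agent.GerbA.BaseChange
import Groth.Agent.AlgStB.Invariance

set_option autoImplicit false
set_option backward.isDefEq.respectTransparency false

universe v₄ u₄ v₃ u₃ v₂ u₂ v u

open CategoryTheory Limits

namespace GerbA

variable {C : Type u} [Category.{v} C]
  {𝒳 : BasedCategory.{v₂, u₂} C} {𝒴 : BasedCategory.{v₃, u₃} C} {𝒵 : BasedCategory.{v₄, u₄} C}

theorem lift_comp {a b c : 𝒳.obj} {W V U : C} (k : W ⟶ V) (h : V ⟶ U) (φ : a ⟶ b) (ψ : b ⟶ c)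
    [𝒳.p.IsHomLift k φ] [𝒳.p.IsHomLift h ψ] : 𝒳.p.IsHomLift (k ≫ h) (φ ≫ ψ) := inferInstance

/-- cartesian comparison: two morphisms over `h` with the same target differ by a unique iso over `𝟙` -/
theorem exists_comparison (h𝒳 : FibCat.IsFibGrpd 𝒳.p) {V U : C} (h : V ⟶ U) {a a' b : 𝒳.obj}
    (φ : a ⟶ b) (φ' : a' ⟶ b) [𝒳.p.IsHomLift h φ] [𝒳.p.IsHomLift h φ'] :
    ∃ i : a' ≅ a, 𝒳.p.IsHomLift (𝟙 V) i.hom ∧ i.hom ≫ φ = φ' := by
  haveI := isSC h𝒳 h φ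
  haveI := isSC h𝒳 h φ'
  exact ⟨Functor.IsCartesian.domainUniqueUpToIso 𝒳.p h φ φ', inferInstance,
    Functor.IsCartesian.fac 𝒳.p h φ φ'⟩

/-- transport along an equality of base objects -/
theorem lift_cast {a b : 𝒳.obj} {V U U' : C} (e : U = U') (h : V ⟶ U') (φ : a ⟶ b)
    (hφ : 𝒳.p.IsHomLift (h ≫ eqToHom e.symm) φ) : 𝒳.p.IsHomLift h φ := by
  subst e; simpa using hφ

theorem isGerbeOver_comp (J : GrothendieckTopology C) (F : 𝒳 ⥤ᵇ 𝒴) (G : 𝒴 ⥤ᵇ 𝒵)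
    (h𝒳 : FibCat.IsFibGrpd 𝒳.p) (h𝒴 : FibCat.IsFibGrpd 𝒴.p)
    (hF : Gerb.IsGerbeOver J F) (hG : Gerb.IsGerbeOver J G) :
    Gerb.IsGerbeOver J (BasedFunctor.comp F G) := by
  refine ⟨fun z => ?_, fun x x' b hb => ?_⟩
  · obtain ⟨R, hR, hR'⟩ := hG.1 z
    choose y g hg using hR'
    choose T hT hT' using fun (V : C) (h : V ⟶ 𝒵.p.obj z) (hh : R h) => hF.1 (y h hh)
    have hV : ∀ (V : C) (h : V ⟶ 𝒵.p.obj z) (hh : R h), 𝒴.p.obj (y h hh) = V := fun V h hh =>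
      (G.w_obj _).symm.trans (@IsHomLift.domain_eq _ _ _ _ 𝒵.p _ _ _ _ h (g h hh) (hg h hh))
    refine ⟨Sieve.bind R.arrows fun V h hh => (T V h hh).pullback (eqToHom (hV V h hh).symm),
      J.bind_covering hR fun V h hh => J.pullback_stable _ (hT V h hh), ?_⟩
    rintro W _ ⟨V, k, h, hh, hk, rfl⟩
    obtain ⟨x, g', hg'⟩ := hT' V h hh (k ≫ eqToHom (hV V h hh).symm) hk
    haveI := lift_cast (hV V h hh) k g' hg'
    haveI : 𝒵.p.IsHomLift k (G.map g') := (BasedFunctor.isHomLift_iff G k g').mpr inferInstance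
    haveI := hg h hh
    exact ⟨x, G.map g' ≫ g h hh, lift_comp k h _ _⟩
  · obtain ⟨R, hR, hR'⟩ := hG.2 (F.obj x) (F.obj x') b (by rw [F.w_obj]; exact hb)
    have hU : 𝒴.p.obj (F.obj x) = 𝒳.p.obj x := F.w_obj x
    have hU' : 𝒳.p.obj x' = 𝒳.p.obj x := by
      have h1 : 𝒵.p.obj (G.obj (F.obj x')) = 𝒳.p.obj x := IsHomLift.codomain_eq 𝒵.p (𝟙 (𝒳.p.obj x)) b
      rw [G.w_obj, F.w_obj] at h1
      exact h1
    have key : ∀ (V : C) (h : V ⟶ 𝒳.p.obj x), R.pullback (eqToHom hU.symm) h →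
        ∃ T ∈ J V, ∀ (W : C) (k : W ⟶ V), T k → ∃ (x₀ : 𝒳.obj) (φ : x₀ ⟶ x) (ψ : x₀ ⟶ x'),
          𝒳.p.IsHomLift (k ≫ h) φ ∧ 𝒳.p.IsHomLift (k ≫ h) ψ ∧ G.map (F.map φ) ≫ b = G.map (F.map ψ) := by
      intro V h hh
      obtain ⟨y0, φ, ψ, hφ, hψ, he⟩ := hR' (h ≫ eqToHom hU.symm) hh
      haveI := lift_cast hU h φ hφ
      haveI := lift_cast hU h ψ hψ
      obtain ⟨x1, φx, hφx⟩ := exists_pullback h𝒳 (rfl : 𝒳.p.obj x = _) h
      obtain ⟨x1', φx', hφx'⟩ := exists_pullback h𝒳 hU' h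
      haveI := (BasedFunctor.isHomLift_iff F h φx).mpr hφx
      haveI := (BasedFunctor.isHomLift_iff F h φx').mpr hφx'
      obtain ⟨i, hi, hi'⟩ := exists_comparison h𝒴 h (F.map φx) φ
      obtain ⟨i', hi2, hi2'⟩ := exists_comparison h𝒴 h (F.map φx') ψ
      have hV : 𝒳.p.obj x1 = V := IsHomLift.domain_eq 𝒳.p h φx
      have hb1 : 𝒴.p.IsHomLift (𝟙 V) (i.inv ≫ i'.hom) := inferInstance
      obtain ⟨T, hT, hT'⟩ := hF.2 x1 x1' (i.inv ≫ i'.hom) (by rw [hV]; exact hb1)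
      refine ⟨T.pullback (eqToHom hV.symm), J.pullback_stable _ hT, fun W k hk => ?_⟩
      obtain ⟨x0, α, β, hα, hβ, hαβ⟩ := hT' (k ≫ eqToHom hV.symm) hk
      haveI := lift_cast hV k α hα
      haveI := lift_cast hV k β hβ
      refine ⟨x0, α ≫ φx, β ≫ φx', lift_comp k h α φx, lift_comp k h β φx', ?_⟩
      have e1 : F.map φx = i.inv ≫ φ := by rw [← hi', Iso.inv_hom_id_assoc]
      rw [Functor.map_comp, Functor.map_comp, e1]
      have hh2 : G.map (F.map α) ≫ G.map (i.inv ≫ i'.hom) = G.map (F.map β) := by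
        rw [← Functor.map_comp, hαβ]
      have he2 : G.map φ ≫ b = G.map i'.hom ≫ G.map (F.map φx') := by
        rw [← Functor.map_comp, hi2']; exact he
      simp only [Functor.map_comp, Category.assoc] at hh2 ⊢
      erw [he2, ← hh2]
      simp
    choose T hT hT' using key
    refine ⟨Sieve.bind (R.pullback (eqToHom hU.symm)).arrows T,
      J.bind_covering (J.pullback_stable _ hR) fun V h hh => hT V h hh, ?_⟩
    rintro W _ ⟨V, k, h, hh, hk, rfl⟩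
    obtain ⟨x₀, φ, ψ, h1, h2, h3⟩ := hT' V h hh W k hk
    exact ⟨x₀, φ, ψ, h1, h2, h3⟩

theorem isGerbeOver_of_precomp {𝒲 : BasedCategory.{v₄, u₄} C} (J : GrothendieckTopology C) (E : 𝒲 ⥤ᵇ 𝒳)
    (hE : FibCat.IsEquivOver E) (F : 𝒳 ⥤ᵇ 𝒴) (hF : Gerb.IsGerbeOver J (BasedFunctor.comp E F)) :
    Gerb.IsGerbeOver J F := by
  obtain ⟨G, -, ⟨ε⟩⟩ := hE
  refine ⟨fun y => ?_, fun x x' b hb => ?_⟩
  · obtain ⟨R, hR, hR'⟩ := hF.1 y
    refine ⟨R, hR, fun V h hh => ?_⟩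
    obtain ⟨w, g, hg⟩ := hR' h hh
    exact ⟨E.obj w, g, hg⟩
  · have hU : 𝒲.p.obj (G.obj x) = 𝒳.p.obj x := G.w_obj x
    have hx' : 𝒳.p.obj x' = 𝒳.p.obj x :=
      (F.w_obj x').symm.trans (IsHomLift.codomain_eq 𝒴.p (𝟙 (𝒳.p.obj x)) b)
    haveI : 𝒳.p.IsHomLift (𝟙 (𝒳.p.obj x)) (ε.hom.toNatTrans.app x) := ε.hom.isHomLift' x
    haveI : 𝒳.p.IsHomLift (𝟙 (𝒳.p.obj x)) (ε.inv.toNatTrans.app x') := ε.inv.isHomLift hx'
    haveI := (BasedFunctor.isHomLift_iff F (𝟙 (𝒳.p.obj x)) (ε.hom.toNatTrans.app x)).mpr inferInstance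
    haveI := (BasedFunctor.isHomLift_iff F (𝟙 (𝒳.p.obj x)) (ε.inv.toNatTrans.app x')).mpr inferInstance
    haveI := hb
    have hb2 : 𝒴.p.IsHomLift (𝟙 (𝒳.p.obj x))
        (F.map (ε.hom.toNatTrans.app x) ≫ b ≫ F.map (ε.inv.toNatTrans.app x')) := inferInstance
    obtain ⟨R, hR, hR'⟩ := hF.2 (G.obj x) (G.obj x')
      (F.map (ε.hom.toNatTrans.app x) ≫ b ≫ F.map (ε.inv.toNatTrans.app x')) (by rw [hU]; exact hb2)
    refine ⟨R.pullback (eqToHom hU.symm), J.pullback_stable _ hR, fun V h hh => ?_⟩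
    obtain ⟨w, φ, ψ, hφ, hψ, he⟩ := hR' (h ≫ eqToHom hU.symm) hh
    haveI := (BasedFunctor.isHomLift_iff E h φ).mpr (lift_cast hU h φ hφ)
    haveI := (BasedFunctor.isHomLift_iff E h ψ).mpr (lift_cast hU h ψ hψ)
    haveI : 𝒳.p.IsHomLift (𝟙 (𝒳.p.obj x)) (ε.hom.toNatTrans.app x') := ε.hom.isHomLift hx'
    refine ⟨E.obj w, E.map φ ≫ ε.hom.toNatTrans.app x, E.map ψ ≫ ε.hom.toNatTrans.app x',
      inferInstance, inferInstance, ?_⟩
    have hinv : F.map (ε.inv.toNatTrans.app x') ≫ F.map (ε.hom.toNatTrans.app x') = 𝟙 _ := by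
      rw [← Functor.map_comp]
      exact (congrArg F.toFunctor.map (((BasedNatTrans.forgetful _ _).mapIso ε).inv_hom_id_app x')).trans
        (F.toFunctor.map_id _)
    have he' : F.map (E.map φ) ≫ F.map (ε.hom.toNatTrans.app x) ≫ b ≫ F.map (ε.inv.toNatTrans.app x') =
        F.map (E.map ψ) := he
    rw [Functor.map_comp, Functor.map_comp, ← he']
    simp only [Category.assoc]
    erw [hinv, Category.comp_id]

theorem isGerbeOver_descend (J : GrothendieckTopology C) (F : 𝒳 ⥤ᵇ 𝒵) (G : 𝒴 ⥤ᵇ 𝒵)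
    (h𝒳 : FibCat.IsFibGrpd 𝒳.p) (h𝒵 : FibCat.IsFibGrpd 𝒵.p) (hG : Gerb.LocSurjObj J G)
    (hF : Gerb.IsGerbeOver J (FibCat.fpFst G F)) : Gerb.IsGerbeOver J F := by
  refine ⟨fun z => ?_, fun x x' b hb => ?_⟩
  · obtain ⟨R, hR, hR'⟩ := hG z
    choose y g hg using hR'
    choose T hT hT' using fun (V : C) (h : V ⟶ 𝒵.p.obj z) (hh : R h) => hF.1 (y h hh)
    have hV : ∀ (V : C) (h : V ⟶ 𝒵.p.obj z) (hh : R h), 𝒴.p.obj (y h hh) = V := fun V h hh =>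
      (G.w_obj _).symm.trans (@IsHomLift.domain_eq _ _ _ _ 𝒵.p _ _ _ _ h (g h hh) (hg h hh))
    refine ⟨Sieve.bind R.arrows fun V h hh => (T V h hh).pullback (eqToHom (hV V h hh).symm),
      J.bind_covering hR fun V h hh => J.pullback_stable _ (hT V h hh), ?_⟩
    rintro W _ ⟨V, k, h, hh, hk, rfl⟩
    obtain ⟨w, g', hg'⟩ := hT' V h hh (k ≫ eqToHom (hV V h hh).symm) hk
    haveI := lift_cast (hV V h hh) k g' hg'
    haveI : 𝒵.p.IsHomLift k (G.map g') := (BasedFunctor.isHomLift_iff G k g').mpr inferInstance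
    haveI := hg h hh
    have hw : 𝒴.p.obj w.obj.fst = W := IsHomLift.domain_eq 𝒴.p k g'
    haveI : 𝒵.p.IsHomLift (𝟙 W) w.obj.iso.hom := hw ▸ (w.property : 𝒵.p.IsHomLift _ _)
    haveI : 𝒵.p.IsHomLift k (w.obj.iso.inv ≫ G.map g') := inferInstance
    exact ⟨w.obj.snd, (w.obj.iso.inv ≫ G.map g') ≫ g h hh, lift_comp k h _ _⟩
  · obtain ⟨R, hR, hR'⟩ := hG (F.obj x)
    have hU : 𝒵.p.obj (F.obj x) = 𝒳.p.obj x := F.w_obj x
    have hx' : 𝒳.p.obj x' = 𝒳.p.obj x := (F.w_obj x').symm.trans (IsHomLift.codomain_eq 𝒵.p (𝟙 (𝒳.p.obj x)) b)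
    have key : ∀ (V : C) (h : V ⟶ 𝒳.p.obj x), R.pullback (eqToHom hU.symm) h →
        ∃ T ∈ J V, ∀ (W : C) (k : W ⟶ V), T k → ∃ (x₀ : 𝒳.obj) (φ : x₀ ⟶ x) (ψ : x₀ ⟶ x'),
          𝒳.p.IsHomLift (k ≫ h) φ ∧ 𝒳.p.IsHomLift (k ≫ h) ψ ∧ F.map φ ≫ b = F.map ψ := by
      intro V h hh
      obtain ⟨y, u, hu⟩ := hR' (h ≫ eqToHom hU.symm) hh
      haveI := lift_cast hU h u hu
      haveI := hb
      haveI : 𝒵.p.IsHomLift h (u ≫ b) := IsHomLift.comp_lift_id_right' 𝒵.p h u (𝒳.p.obj x) b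
      obtain ⟨x1, φx, hφx⟩ := exists_pullback h𝒳 (rfl : 𝒳.p.obj x = _) h
      obtain ⟨x1', φx', hφx'⟩ := exists_pullback h𝒳 hx' h
      haveI := (BasedFunctor.isHomLift_iff F h φx).mpr hφx
      haveI := (BasedFunctor.isHomLift_iff F h φx').mpr hφx'
      obtain ⟨i, hi, hi'⟩ := exists_comparison h𝒵 h (F.map φx) u
      obtain ⟨i', hi2, hi2'⟩ := exists_comparison h𝒵 h (F.map φx') (u ≫ b)
      have hV : 𝒴.p.obj y = V := (G.w_obj y).symm.trans (IsHomLift.domain_eq 𝒵.p h u)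
      let z1 : (FibCat.fp G F).obj := ⟨⟨y, x1, i⟩, by show 𝒵.p.IsHomLift (𝟙 (𝒴.p.obj y)) i.hom; rw [hV]; exact hi⟩
      let z2 : (FibCat.fp G F).obj := ⟨⟨y, x1', i'⟩, by show 𝒵.p.IsHomLift (𝟙 (𝒴.p.obj y)) i'.hom; rw [hV]; exact hi2⟩
      obtain ⟨T, hT, hT'⟩ := hF.2 z1 z2 (𝟙 y : z1.obj.fst ⟶ z2.obj.fst)
        (IsHomLift.id (p := 𝒴.p) (rfl : 𝒴.p.obj y = _))
      refine ⟨T.pullback (eqToHom hV.symm), J.pullback_stable _ hT, fun W k hk => ?_⟩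
      obtain ⟨w, α, β, hα, hβ, hαβ⟩ := hT' (k ≫ eqToHom hV.symm) hk
      haveI := lift_cast (𝒳 := FibCat.fp G F) hV k α hα
      haveI := lift_cast (𝒳 := FibCat.fp G F) hV k β hβ
      haveI : 𝒳.p.IsHomLift k α.hom.snd := (BasedFunctor.isHomLift_iff (FibCat.fpSnd G F) k α).mpr inferInstance
      haveI : 𝒳.p.IsHomLift k β.hom.snd := (BasedFunctor.isHomLift_iff (FibCat.fpSnd G F) k β).mpr inferInstance
      refine ⟨w.obj.snd, α.hom.snd ≫ φx, β.hom.snd ≫ φx', lift_comp k h _ φx, lift_comp k h _ φx', ?_⟩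
      have hfst : α.hom.fst = β.hom.fst := (Category.comp_id _).symm.trans hαβ
      have e1 : w.obj.iso.hom ≫ F.map α.hom.snd = G.map α.hom.fst ≫ i.hom := α.hom.w.symm
      have e2 : w.obj.iso.hom ≫ F.map β.hom.snd = G.map β.hom.fst ≫ i'.hom := β.hom.w.symm
      rw [← cancel_epi w.obj.iso.hom, Functor.map_comp, Functor.map_comp]
      calc w.obj.iso.hom ≫ (F.map α.hom.snd ≫ F.map φx) ≫ b
          = G.map α.hom.fst ≫ u ≫ b := by
            rw [Category.assoc, ← Category.assoc w.obj.iso.hom, e1, Category.assoc, ← Category.assoc i.hom, hi']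
        _ = _ := by
            rw [hfst, ← Category.assoc w.obj.iso.hom, e2, Category.assoc, hi2']
    choose T hT hT' using key
    refine ⟨Sieve.bind (R.pullback (eqToHom hU.symm)).arrows T,
      J.bind_covering (J.pullback_stable _ hR) fun V h hh => hT V h hh, ?_⟩
    rintro W _ ⟨V, k, h, hh, hk, rfl⟩
    exact hT' V h hh W k hk

theorem comp_toSelf (F : 𝒳 ⥤ᵇ 𝒴) : BasedFunctor.comp F (FibCat.toSelf 𝒴) = FibCat.toSelf 𝒳 := by
  have h : (BasedFunctor.comp F (FibCat.toSelf 𝒴)).toFunctor = (FibCat.toSelf 𝒳).toFunctor := F.w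
  generalize BasedFunctor.comp F (FibCat.toSelf 𝒴) = A at h ⊢
  generalize FibCat.toSelf 𝒳 = B at h ⊢
  cases A; cases B; cases h; rfl

theorem isGerbe_iff_of_isEquivOver (J : GrothendieckTopology C) (F : 𝒳 ⥤ᵇ 𝒴) (hF : FibCat.IsEquivOver F) :
    Gerb.IsGerbe J 𝒳 ↔ Gerb.IsGerbe J 𝒴 := by
  refine and_congr (Groth.Agent.AlgStB.isStack_iff_of_isEquivOver hF J) ?_
  rw [← comp_toSelf F]
  exact ⟨isGerbeOver_of_precomp J F hF _, isGerbeOver_precomp J F hF _⟩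

end GerbA
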