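import Groth.Agent.GerbA.Local

/-!
# A morphism of gerbes which is bijective on the automorphisms of a global object is an equivalence
-/

set_option autoImplicit false
set_option maxHeartbeats 400000
set_option linter.style.haveILetI false
set_option linter.unusedSectionVars false
set_option backward.isDefEq.respectTransparency false
set_option backward.isDefEq.respectTransparency.types false

open CategoryTheory CategoryTheory.Functor Opposite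
open Groth.Agent

universe v₃ u₃ v₂ u₂ v u

namespace GerbA

variable {C : Type u} [Category.{v} C] {J : GrothendieckTopology C}
  {𝒳 : BasedCategory.{v₂, u₂} C} {𝒴 : BasedCategory.{v₃, u₃} C}
  (h𝒳 : Gerb.IsGerbe J 𝒳) (h𝒴 : Gerb.IsGerbe J 𝒴) (φ : 𝒳 ⥤ᵇ 𝒴) {T : C}
  (t : ∀ U : C, U ⟶ T) {s : 𝒳.obj} (hs : 𝒳.p.obj s = T)
  (hφ : ∀ (x : 𝒳.obj) (_c : x ⟶ s), Function.Bijective (Gerb.autMap φ x))

theorem lift_map {U V : C} (f : V ⟶ U) {a b : 𝒳.obj} (α : a ⟶ b) (h : 𝒳.p.IsHomLift f α) :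
    𝒴.p.IsHomLift f (φ.map α) :=
  haveI := h
  BasedFunctor.preserves_isHomLift φ f α

include h𝒳 h𝒴 t hs hφ

theorem injective_at {U : C} {a b : 𝒳.obj} (f f' : a ⟶ b) (hf : 𝒳.p.IsHomLift (𝟙 U) f)
    (hf' : 𝒳.p.IsHomLift (𝟙 U) f') (e : φ.map f = φ.map f') : f = f' := by
  have hgr := h𝒳.1.1
  haveI := hf
  haveI := hf'
  obtain ⟨R, hR, hR'⟩ := locally_to h𝒳 t hs (IsHomLift.domain_eq 𝒳.p (𝟙 U) f)
  refine StkGlue.hom_ext hgr ⟨(h𝒳.1.2 R hR).full, (h𝒳.1.2 R hR).faithful⟩ f f' hf hf'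
    fun V h hh => ?_
  obtain ⟨w, k, hk, ⟨c⟩⟩ := hR' h hh
  haveI := hk
  refine ⟨w, k, hk, ?_⟩
  haveI : 𝒳.p.IsHomLift h (k ≫ f) := IsHomLift.comp_lift_id_right 𝒳.p h k f
  haveI : 𝒳.p.IsHomLift h (k ≫ f') := IsHomLift.comp_lift_id_right 𝒳.p h k f'
  have hw : 𝒳.p.obj w = V := IsHomLift.domain_eq 𝒳.p h k
  subst hw
  haveI : 𝒳.p.IsHomLift (𝟙 (𝒳.p.obj w) ≫ h) (k ≫ f') := by rw [Category.id_comp]; infer_instance
  obtain ⟨i, ⟨hi, hif⟩, -⟩ := StkGlue.existsUnique_fac hgr h (𝟙 (𝒳.p.obj w)) (k ≫ f) (k ≫ f')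
  haveI := hi
  haveI : IsIso i := Fib.isIso_of_isHomLift 𝒳.p hgr (𝟙 (𝒳.p.obj w)) i
  have h1 : Gerb.autMap φ w (Fib.fiberIso 𝒳.p (asIso i) hi) = Gerb.autMap φ w 1 := by
    apply Aut.ext
    apply Fiber.hom_ext
    change φ.map i = φ.map (𝟙 w)
    haveI := lift_map φ _ i hi
    haveI : 𝒴.p.IsHomLift (𝟙 (𝒳.p.obj w)) (φ.map (𝟙 w)) :=
      lift_map φ _ _ (IsHomLift.id rfl)
    haveI := lift_map φ h (k ≫ f) ‹_›
    haveI := Fib.isStronglyCartesian_of_isFibGrpd 𝒴.p h𝒴.1.1 h (φ.map (k ≫ f))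
    refine IsStronglyCartesian.ext 𝒴.p h (φ.map (k ≫ f)) (𝟙 (𝒳.p.obj w)) ?_
    rw [← CategoryTheory.Functor.map_comp, ← CategoryTheory.Functor.map_comp, hif, Category.id_comp,
      CategoryTheory.Functor.map_comp, CategoryTheory.Functor.map_comp, e]
  have h2 := congrArg (fun u : Gerb.AutO w => u.hom.1) ((hφ w c).1 h1)
  change i = 𝟙 w at h2
  rw [← hif, h2, Category.id_comp]

theorem existsUnique_map {U V : C} (h : V ⟶ U) {a b : 𝒳.obj} (f f' : a ⟶ b)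
    (hf : 𝒳.p.IsHomLift h f) (hf' : 𝒳.p.IsHomLift h f') (e : φ.map f = φ.map f') : f = f' := by
  have hgr := h𝒳.1.1
  haveI := hf
  haveI := hf'
  have ha : 𝒳.p.obj a = V := IsHomLift.domain_eq 𝒳.p h f
  haveI : 𝒳.p.IsHomLift (𝟙 V ≫ h) f' := by rw [Category.id_comp]; exact hf'
  obtain ⟨i, ⟨hi, hif⟩, -⟩ := StkGlue.existsUnique_fac hgr h (𝟙 V) f f'
  have hid : 𝒳.p.IsHomLift (𝟙 V) (𝟙 a) := IsHomLift.id ha
  suffices i = 𝟙 a by rw [← hif, this, Category.id_comp]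
  refine injective_at h𝒳 h𝒴 φ t hs hφ i (𝟙 a) hi hid ?_
  haveI := lift_map φ _ i hi
  haveI := lift_map φ _ _ hid
  haveI := lift_map φ h f hf
  haveI := Fib.isStronglyCartesian_of_isFibGrpd 𝒴.p h𝒴.1.1 h (φ.map f)
  refine IsStronglyCartesian.ext 𝒴.p h (φ.map f) (𝟙 V) ?_
  rw [← CategoryTheory.Functor.map_comp, ← CategoryTheory.Functor.map_comp, hif, Category.id_comp, e]

theorem exists_preimage_at {U : C} {a b : 𝒳.obj} (ha : 𝒳.p.obj a = U) (hb : 𝒳.p.obj b = U)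
    (g : φ.obj a ⟶ φ.obj b) (hg : 𝒴.p.IsHomLift (𝟙 U) g) :
    ∃ f : a ⟶ b, 𝒳.p.IsHomLift (𝟙 U) f ∧ φ.map f = g := by
  have hgr := h𝒳.1.1
  have hgr' := h𝒴.1.1
  haveI := hg
  let P : ∀ ⦃V : C⦄, (V ⟶ U) → Prop := fun V h => ∀ (a' : 𝒳.obj) (α : a' ⟶ a),
    𝒳.p.IsHomLift h α → ∃ γ : a' ⟶ b, 𝒳.p.IsHomLift h γ ∧ φ.map γ = φ.map α ≫ g
  let R : Sieve U :=
    { arrows := fun V h => P h
      downward_closed := fun {V W h} hh e a'' α'' hα'' => by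
        haveI := hα''
        obtain ⟨a', α, hα⟩ := StkGlue.exists_lift_at hgr ha h
        haveI := hα
        obtain ⟨γ, hγ, hγ'⟩ := hh a' α hα
        obtain ⟨κ, ⟨hκ, hκ'⟩, -⟩ := StkGlue.existsUnique_fac hgr h e α α''
        haveI := hκ
        haveI := hγ
        exact ⟨κ ≫ γ, inferInstance, by
          rw [CategoryTheory.Functor.map_comp, hγ', ← Category.assoc,
            ← CategoryTheory.Functor.map_comp, hκ']⟩ }
  obtain ⟨R₁, hR₁, hR₁'⟩ := locally_to h𝒳 t hs ha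
  have key : ∀ ⦃V : C⦄ (h : V ⟶ U), R₁ h → ∃ S ∈ J V, ∀ ⦃W : C⦄ (k : W ⟶ V), S k → R (k ≫ h) := by
    intro V h hh
    obtain ⟨x₀, φ₀, h₀, ⟨c₀⟩⟩ := hR₁' h hh
    haveI := h₀
    obtain ⟨b₀, β₀, hβ₀⟩ := StkGlue.exists_lift_at hgr hb h
    haveI := hβ₀
    obtain ⟨S, hS, hS'⟩ := locally_iso h𝒳 (IsHomLift.domain_eq 𝒳.p h φ₀)
      (IsHomLift.domain_eq 𝒳.p h β₀)
    refine ⟨S, hS, fun W k hk a' α hα => ?_⟩
    obtain ⟨x₁, μ, ν, hμ, hν⟩ := hS' k hk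
    haveI := hα
    haveI := hμ
    haveI := hν
    have hW : 𝒳.p.obj x₁ = W := IsHomLift.domain_eq 𝒳.p k μ
    subst hW
    haveI hA : 𝒳.p.IsHomLift (k ≫ h) (μ ≫ φ₀) := inferInstance
    haveI hB : 𝒳.p.IsHomLift (k ≫ h) (ν ≫ β₀) := inferInstance
    haveI := lift_map φ (k ≫ h) _ hA
    haveI := lift_map φ (k ≫ h) _ hB
    haveI : 𝒴.p.IsHomLift (k ≫ h) (φ.map (μ ≫ φ₀) ≫ g) :=
      IsHomLift.comp_lift_id_right 𝒴.p _ (φ.map (μ ≫ φ₀)) g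
    haveI : 𝒴.p.IsHomLift (𝟙 (𝒳.p.obj x₁) ≫ k ≫ h) (φ.map (μ ≫ φ₀) ≫ g) := by
      rw [Category.id_comp]; infer_instance
    obtain ⟨δ, ⟨hδ, hδ'⟩, -⟩ := StkGlue.existsUnique_fac hgr' (k ≫ h) (𝟙 (𝒳.p.obj x₁))
      (φ.map (ν ≫ β₀)) (φ.map (μ ≫ φ₀) ≫ g)
    haveI := hδ
    haveI : IsIso δ := Fib.isIso_of_isHomLift 𝒴.p hgr' (𝟙 (𝒳.p.obj x₁)) δ
    have hδ₂ : 𝒴.p.IsHomLift (𝟙 (𝒴.p.obj (φ.obj x₁))) δ :=
      lift_id_cast (φ.w_obj x₁).symm hδ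
    obtain ⟨i, hi⟩ := (hφ x₁ (μ ≫ c₀)).2 (Fib.fiberIso 𝒴.p (asIso δ) hδ₂)
    have hi' : φ.map i.hom.1 = δ := congrArg (fun u : Gerb.AutO (φ.obj x₁) => u.hom.1) hi
    haveI : 𝒳.p.IsHomLift (𝟙 (𝒳.p.obj x₁)) i.hom.1 := i.hom.2
    haveI : 𝒳.p.IsHomLift (𝟙 (𝒳.p.obj x₁) ≫ k ≫ h) α := by rw [Category.id_comp]; exact hα
    obtain ⟨κ, ⟨hκ, hκ'⟩, -⟩ := StkGlue.existsUnique_fac hgr (k ≫ h) (𝟙 (𝒳.p.obj x₁)) (μ ≫ φ₀) α
    haveI := hκ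
    haveI : 𝒳.p.IsHomLift (k ≫ h) (i.hom.1 ≫ ν ≫ β₀) :=
      IsHomLift.comp_lift_id_left 𝒳.p (k ≫ h) (ν ≫ β₀) i.hom.1
    refine ⟨κ ≫ i.hom.1 ≫ ν ≫ β₀,
      IsHomLift.comp_lift_id_left 𝒳.p (k ≫ h) (i.hom.1 ≫ ν ≫ β₀) κ, ?_⟩
    rw [← hκ', CategoryTheory.Functor.map_comp φ.toFunctor κ (μ ≫ φ₀),
      CategoryTheory.Functor.map_comp φ.toFunctor κ (i.hom.1 ≫ ν ≫ β₀),
      CategoryTheory.Functor.map_comp φ.toFunctor i.hom.1 (ν ≫ β₀), hi', hδ', Category.assoc]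
  choose S hS hS' using key
  have hR : R ∈ J U := by
    refine J.superset_covering ?_ (J.bind_covering hR₁ fun V h hh => hS h hh)
    rintro W _ ⟨V, k, h, hh, hk, rfl⟩
    exact hS' h hh k hk
  have hP : ∀ ⦃V : C⦄ (h : V ⟶ U), R h → P h := fun V h hh => hh
  choose γ hγ hγ' using hP
  obtain ⟨f, hf, hfγ⟩ := StkGlue.exists_glue (a := a) (b := b) hgr
    ⟨(h𝒳.1.2 R hR).full, (h𝒳.1.2 R hR).faithful⟩ ha hb γ hγ
    (fun W V e h hh hgh a'' a' κ α hκ hα hκα => by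
      haveI := hκ
      haveI := hγ h hh a' α hα
      refine existsUnique_map h𝒳 h𝒴 φ t hs hφ (e ≫ h) _ _ (hγ _ _ _ _ hκα) inferInstance ?_
      rw [hγ', CategoryTheory.Functor.map_comp, CategoryTheory.Functor.map_comp, hγ', Category.assoc])
  refine ⟨f, hf, ?_⟩
  refine StkGlue.hom_ext hgr' ⟨(h𝒴.1.2 R hR).full, (h𝒴.1.2 R hR).faithful⟩ (φ.map f) g
    (lift_map φ _ f hf) hg fun V h hh => ?_
  obtain ⟨a', α, hα⟩ := StkGlue.exists_lift_at hgr ha h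
  refine ⟨φ.obj a', φ.map α, lift_map φ h α hα, ?_⟩
  rw [← CategoryTheory.Functor.map_comp, hfγ h hh a' α hα, hγ']

theorem faithful : φ.toFunctor.Faithful where
  map_injective {a b f f'} e := by
    have hbase : 𝒳.p.map f = 𝒳.p.map f' := by
      have h1 := Fib.w_map φ f
      rw [e, Fib.w_map φ f'] at h1
      exact ((cancel_mono _).mp ((cancel_epi _).mp h1)).symm
    exact existsUnique_map h𝒳 h𝒴 φ t hs hφ (𝒳.p.map f) f f' (IsHomLift.map 𝒳.p f)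
      (hbase ▸ IsHomLift.map 𝒳.p f') e

theorem full : φ.toFunctor.Full where
  map_surjective {a b} g := by
    let e : 𝒳.p.obj a ⟶ 𝒳.p.obj b := eqToHom (φ.w_obj a).symm ≫ 𝒴.p.map g ≫ eqToHom (φ.w_obj b)
    haveI : 𝒴.p.IsHomLift e g := IsHomLift.of_fac _ _ _ (φ.w_obj a) (φ.w_obj b) rfl
    obtain ⟨b', β, hβ⟩ := StkGlue.exists_lift_at h𝒳.1.1 rfl e
    haveI := hβ
    haveI := lift_map φ e β hβ
    haveI : 𝒴.p.IsHomLift (𝟙 (𝒳.p.obj a) ≫ e) g := by rw [Category.id_comp]; infer_instance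
    obtain ⟨g', ⟨hg', hgβ⟩, -⟩ :=
      StkGlue.existsUnique_fac h𝒴.1.1 e (𝟙 (𝒳.p.obj a)) (φ.map β) g
    obtain ⟨f, -, hfg⟩ := exists_preimage_at h𝒳 h𝒴 φ t hs hφ rfl
      (IsHomLift.domain_eq 𝒳.p e β) g' hg'
    exact ⟨f ≫ β, by rw [CategoryTheory.Functor.map_comp, hfg, hgβ]⟩

theorem exists_cover_image {U : C} {y : 𝒴.obj} (hy : 𝒴.p.obj y = U) :
    ∃ R ∈ J U, ∀ ⦃V : C⦄ (h : V ⟶ U), R h →
      ∃ (x : 𝒳.obj) (g : φ.obj x ⟶ y), 𝒴.p.IsHomLift h g := by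
  obtain ⟨s', α, hα⟩ := StkGlue.exists_lift_at h𝒳.1.1 hs (t U)
  haveI := hα
  have hs' : 𝒳.p.obj s' = U := IsHomLift.domain_eq 𝒳.p (t U) α
  obtain ⟨R, hR, hR'⟩ := locally_iso h𝒴 hy ((φ.w_obj s').trans hs')
  refine ⟨R, hR, fun V h hh => ?_⟩
  obtain ⟨y₀, μ, ν, hμ, hν⟩ := hR' h hh
  haveI := hμ
  haveI := hν
  obtain ⟨x, k, hk⟩ := StkGlue.exists_lift_at h𝒳.1.1 hs' h
  haveI := hk
  haveI := lift_map φ h k hk
  haveI : 𝒴.p.IsHomLift (𝟙 V ≫ h) (φ.map k) := by rw [Category.id_comp]; infer_instance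
  obtain ⟨m, ⟨hm, -⟩, -⟩ := StkGlue.existsUnique_fac h𝒴.1.1 h (𝟙 V) ν (φ.map k)
  haveI := hm
  exact ⟨x, m ≫ μ, IsHomLift.comp_lift_id_left 𝒴.p h μ m⟩

theorem essSurj_over (y : 𝒴.obj) : ∃ (ξ : 𝒳.obj) (e : φ.obj ξ ≅ y),
    𝒴.p.IsHomLift (𝟙 (𝒴.p.obj y)) e.hom := by
  have hgr := h𝒳.1.1
  have hgr' := h𝒴.1.1
  haveI := faithful h𝒳 h𝒴 φ t hs hφ
  haveI := full h𝒳 h𝒴 φ t hs hφ
  obtain ⟨R, hR, hR'⟩ := exists_cover_image h𝒳 h𝒴 φ t hs hφ (rfl : 𝒴.p.obj y = _)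
  choose x g hg using hR'
  haveI := Fib.isFibered_of_isFibGrpd _ hgr'
  obtain ⟨Gy, -, ey, hey⟩ := Fib.exists_basedFunctor (𝒳 := 𝒴) (U := 𝒴.p.obj y) ⟨y, rfl⟩
  haveI : 𝒴.p.IsHomLift (𝟙 (𝒴.p.obj y)) ey.hom := hey
  have hA : ∀ w : Over (𝒴.p.obj y), 𝒴.p.IsHomLift w.hom (Gy.map (Fib.toId w) ≫ ey.hom) := fun w =>
    haveI := Fib.map_toId_isHomLift Gy w
    IsHomLift.comp_lift_id_right 𝒴.p w.hom (Gy.map (Fib.toId w)) ey.hom
  have hex : ∀ w : (Stk.sieveCat R).obj, ∃ e : φ.obj (x w.obj.hom w.property) ≅ Gy.obj w.obj,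
      𝒴.p.IsHomLift (𝟙 w.obj.left) e.hom := by
    intro w
    haveI := hA w.obj
    haveI := hg w.obj.hom w.property
    haveI : 𝒴.p.IsHomLift (𝟙 w.obj.left ≫ w.obj.hom) (g w.obj.hom w.property) := by
      rw [Category.id_comp]; infer_instance
    obtain ⟨m, ⟨hm, -⟩, -⟩ := StkGlue.existsUnique_fac hgr' w.obj.hom (𝟙 w.obj.left)
      (Gy.map (Fib.toId w.obj) ≫ ey.hom) (g w.obj.hom w.property)
    haveI := hm
    haveI : IsIso m := Fib.isIso_of_isHomLift 𝒴.p hgr' (𝟙 w.obj.left) m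
    exact ⟨asIso m, hm⟩
  choose e he using hex
  let H₀ : (Stk.sieveCat R).obj ⥤ 𝒳.obj :=
    { obj := fun w => x w.obj.hom w.property
      map := fun {w w'} k => φ.toFunctor.preimage ((e w).hom ≫ Gy.map k.hom ≫ (e w').inv)
      map_id := fun w => φ.toFunctor.map_injective (by
        rw [Functor.map_preimage, CategoryTheory.Functor.map_id]
        erw [Gy.toFunctor.map_id, Category.id_comp, Iso.hom_inv_id])
      map_comp := fun k k' => φ.toFunctor.map_injective (by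
        rw [Functor.map_preimage, CategoryTheory.Functor.map_comp, Functor.map_preimage,
          Functor.map_preimage]
        erw [Gy.toFunctor.map_comp]
        simp) }
  have hp : ∀ w, 𝒳.p.obj (H₀.obj w) = w.obj.left := fun w =>
    (φ.w_obj _).symm.trans (haveI := he w; IsHomLift.domain_eq 𝒴.p (𝟙 w.obj.left) (e w).hom)
  have hl : ∀ {w w' : (Stk.sieveCat R).obj} (k : w ⟶ w'), 𝒳.p.IsHomLift k.hom.left (H₀.map k) := by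
    intro w w' k
    rw [← BasedFunctor.isHomLift_iff φ]
    change 𝒴.p.IsHomLift _ (φ.toFunctor.map (φ.toFunctor.preimage _))
    rw [Functor.map_preimage]
    haveI := he w
    haveI := he w'
    haveI : (FibCat.overCat (𝒴.p.obj y)).p.IsHomLift k.hom.left k.hom := IsHomLift.map _ k.hom
    haveI : 𝒴.p.IsHomLift k.hom.left (Gy.map k.hom) := BasedFunctor.preserves_isHomLift Gy _ _
    infer_instance
  let H : Stk.sieveCat R ⥤ᵇ 𝒳 :=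
    { toFunctor := H₀
      w := CategoryTheory.Functor.ext hp fun w w' k => by
        haveI := hl k
        exact IsHomLift.fac' 𝒳.p k.hom.left (H₀.map k) }
  haveI : (Stk.resSieve R 𝒳).IsEquivalence := h𝒳.1.2 R hR
  let G := (Stk.resSieve R 𝒳).objPreimage H
  let ι₀ := (Stk.resSieve R 𝒳).objObjPreimageIso H
  let ι₁ : (Stk.resSieve R 𝒴).obj (BasedFunctor.comp G φ) ≅ BasedFunctor.comp H φ :=
    Fib.isoWhiskerRight ι₀ φ
  let ι₂ : BasedFunctor.comp H φ ≅ (Stk.resSieve R 𝒴).obj Gy :=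
    Fib.isoMk (fun w => e w) (fun {w w'} k => by
      change φ.toFunctor.map (φ.toFunctor.preimage _) ≫ (e w').hom = (e w).hom ≫ Gy.map k.hom
      rw [Functor.map_preimage]
      simp) (fun w => he w)
  haveI : (Stk.resSieve R 𝒴).IsEquivalence := h𝒴.1.2 R hR
  let θ : BasedFunctor.comp G φ ≅ Gy := (Stk.resSieve R 𝒴).preimageIso (ι₁ ≪≫ ι₂)
  refine ⟨G.obj (Over.mk (𝟙 _)), Fib.appIso θ (Over.mk (𝟙 _)) ≪≫ ey, ?_⟩
  haveI : 𝒴.p.IsHomLift (𝟙 (𝒴.p.obj y)) (Fib.appIso θ (Over.mk (𝟙 _))).hom :=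
    θ.hom.isHomLift' (Over.mk (𝟙 (𝒴.p.obj y)))
  exact (inferInstance : 𝒴.p.IsHomLift (𝟙 (𝒴.p.obj y)) ((Fib.appIso θ (Over.mk (𝟙 _))).hom ≫ ey.hom))

theorem isEquivOver : FibCat.IsEquivOver φ :=
  haveI := faithful h𝒳 h𝒴 φ t hs hφ
  haveI := full h𝒳 h𝒴 φ t hs hφ
  Fib.isEquivOver_of_exists_iso_over φ (essSurj_over h𝒳 h𝒴 φ t hs hφ)

end GerbA
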