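import Groth.Agent.GerbA.Descent
import Groth.Agent.StkInh.Stack

set_option autoImplicit false
set_option backward.isDefEq.respectTransparency false
set_option backward.isDefEq.respectTransparency.types false

universe v₄ u₄ v₃ u₃ v₂ u₂ v u

open CategoryTheory Limits

namespace GerbA

variable {C : Type u} [Category.{v} C]
  {𝒳 : BasedCategory.{v₂, u₂} C} {𝒴 : BasedCategory.{v₃, u₃} C}

theorem isStack_over_aux {𝒲 : Type u₂} [Category.{v₂} 𝒲] (J : GrothendieckTopology C) (q : 𝒲 ⥤ 𝒴.obj)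
    (p' : 𝒲 ⥤ C) (w : q ⋙ 𝒴.p = p') (h𝒳 : Stk.IsStack J (BasedCategory.ofFunctor p'))
    (h𝒴 : Stk.IsStack J 𝒴) (hq : FibCat.IsFibGrpd q) :
    Stk.IsStack (𝒴.p.restrictedTopology J) (BasedCategory.ofFunctor q) := by
  subst w
  refine StkInh.isStack_of_base J h𝒴.1 hq (fun U R hR => ?_) (fun U R hR => h𝒳.2 R hR)
  haveI : (Stk.resSieve R (StkInh.Yc 𝒴.p)).IsEquivalence := h𝒴.2 R hR
  exact ⟨inferInstance, inferInstance⟩

theorem isStack_over_of_fac (J : GrothendieckTopology C) (h𝒳 : Stk.IsStack J 𝒳) (h𝒴 : Stk.IsStack J 𝒴)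
    (F : 𝒳 ⥤ᵇ 𝒴) (hF : FibCat.IsFibGrpd F.toFunctor) :
    Stk.IsStack (𝒴.p.restrictedTopology J) (BasedCategory.ofFunctor F.toFunctor) := by
  exact isStack_over_aux J F.toFunctor 𝒳.p F.w h𝒳 h𝒴 hF

theorem lift_self {a b : 𝒳.obj} {z : 𝒴.obj} (F : 𝒳 ⥤ᵇ 𝒴) {y : 𝒴.obj} (φ : a ⟶ b) (h : F.obj a = z)
    (h' : F.obj b = y) (f : z ⟶ y) (e : eqToHom h.symm ≫ F.map φ ≫ eqToHom h' = f) :
    F.toFunctor.IsHomLift f φ :=
  IsHomLift.of_fac _ _ _ h h' e.symm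

theorem isGerbeOver_toSelf (J : GrothendieckTopology C) (h𝒴 : FibCat.IsFibGrpd 𝒴.p) (F : 𝒳 ⥤ᵇ 𝒴)
    (hF : FibCat.IsFibGrpd F.toFunctor) (hG : Gerb.IsGerbeOver J F) :
    Gerb.IsGerbeOver (𝒴.p.restrictedTopology J)
      (FibCat.toSelf (BasedCategory.ofFunctor F.toFunctor)) := by
  refine ⟨fun (y : 𝒴.obj) => ?_, fun (x x' : 𝒳.obj) (b : F.obj x ⟶ F.obj x') hb => ?_⟩
  · obtain ⟨R, hR, hR'⟩ := hG.1 y
    let S : Sieve y :=
      { arrows := fun z φ => R (𝒴.p.map φ)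
        downward_closed := fun {z w f} hf g => by
          rw [CategoryTheory.Functor.map_comp]; exact R.downward_closed hf _ }
    refine ⟨S, ?_, fun z f hf => ?_⟩
    · rw [StkInh.mem_restrictedTopology_iff h𝒴]
      refine J.superset_covering (fun V h hh => ?_) hR
      obtain ⟨z, φ, hφ⟩ := StkInh.exists_lift h𝒴 (rfl : 𝒴.p.obj y = _) h
      refine (StkInh.mem_push_iff h𝒴 S h).mpr ⟨z, φ, hφ, ?_⟩
      obtain rfl : 𝒴.p.obj z = V := IsHomLift.domain_eq 𝒴.p h φ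
      obtain rfl : h = 𝒴.p.map φ := by simpa using IsHomLift.fac 𝒴.p h φ
      exact hh
    · obtain ⟨x, g, hg⟩ := hR' (𝒴.p.map f) hf
      obtain ⟨i, -, hi⟩ := exists_comparison h𝒴 (𝒴.p.map f) g f
      obtain ⟨x1, χ, hχ⟩ := StkInh.exists_lift hF (rfl : F.obj x = _) i.hom
      have h1 : F.obj x1 = z := IsHomLift.domain_eq F.toFunctor i.hom χ
      refine ⟨x1, eqToHom h1 ≫ f, IsHomLift.of_fac _ _ _ h1 rfl ?_⟩
      change f = eqToHom h1.symm ≫ (eqToHom h1 ≫ f) ≫ eqToHom rfl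
      simp
  · haveI : (𝟭 𝒴.obj).IsHomLift (𝟙 (F.obj x)) b := hb
    have hx : F.obj x' = F.obj x := IsHomLift.codomain_eq (𝟭 𝒴.obj) (𝟙 (F.obj x)) b
    have hbb : b = eqToHom hx.symm := by
      have h := IsHomLift.fac' (𝟭 𝒴.obj) (𝟙 (F.obj x)) b
      simp only [Functor.id_map, Category.id_comp, eqToHom_trans] at h
      exact h
    subst hbb
    have hb' : 𝒴.p.IsHomLift (𝟙 (𝒳.p.obj x)) (eqToHom hx.symm) :=
      IsHomLift.of_fac _ _ _ (F.w_obj x) (hx ▸ F.w_obj x : 𝒴.p.obj (F.obj x') = _)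
        (by simp [eqToHom_map])
    obtain ⟨R, hR, hR'⟩ := hG.2 x x' (eqToHom hx.symm) hb'
    have hU : 𝒴.p.obj (F.obj x) = 𝒳.p.obj x := F.w_obj x
    let S : Sieve (F.obj x) :=
      { arrows := fun z φ => R (𝒴.p.map φ ≫ eqToHom hU)
        downward_closed := fun {z w f} hf g => by
          rw [CategoryTheory.Functor.map_comp, Category.assoc]; exact R.downward_closed hf _ }
    refine ⟨S, ?_, fun z f hf => ?_⟩
    · rw [StkInh.mem_restrictedTopology_iff h𝒴]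
      refine StkInh.sieve_cast hU.symm J (fun V h hh => ?_) hR
      obtain ⟨z, φ, hφ⟩ := StkInh.exists_lift h𝒴 (rfl : 𝒴.p.obj (F.obj x) = _) (h ≫ eqToHom hU.symm)
      refine (StkInh.mem_push_iff h𝒴 S _).mpr ⟨z, φ, hφ, ?_⟩
      obtain rfl : 𝒴.p.obj z = V := IsHomLift.domain_eq 𝒴.p (h ≫ eqToHom hU.symm) φ
      have hfac : h ≫ eqToHom hU.symm = 𝒴.p.map φ := by simpa using IsHomLift.fac 𝒴.p (h ≫ eqToHom hU.symm) φ
      change R (𝒴.p.map φ ≫ eqToHom hU)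
      rw [← hfac]; simpa using hh
    · obtain ⟨x0, φ, ψ, hφ, hψ, he⟩ := hR' (𝒴.p.map f ≫ eqToHom hU) hf
      haveI : 𝒴.p.IsHomLift (𝒴.p.map f) (F.map φ) := by
        have h := (BasedFunctor.isHomLift_iff F (𝒴.p.map f ≫ eqToHom hU) φ).mpr hφ
        simpa using (inferInstance : 𝒴.p.IsHomLift ((𝒴.p.map f ≫ eqToHom hU) ≫ eqToHom hU.symm) (F.map φ))
      obtain ⟨i, -, hi⟩ := exists_comparison h𝒴 (𝒴.p.map f) (F.map φ) f
      obtain ⟨x1, χ, hχ⟩ := StkInh.exists_lift hF (rfl : F.obj x0 = _) i.hom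
      have h1 : F.obj x1 = z := IsHomLift.domain_eq F.toFunctor i.hom χ
      have hχ' : F.map χ = eqToHom h1 ≫ i.hom := by
        have h := IsHomLift.fac' F.toFunctor i.hom χ
        exact h.trans (by simp)
      refine ⟨x1, χ ≫ φ, χ ≫ ψ, lift_self F _ h1 rfl f ?_, lift_self F _ h1 hx f ?_, ?_⟩
      · rw [CategoryTheory.Functor.map_comp, hχ']; simp [hi]
      · rw [CategoryTheory.Functor.map_comp, hχ', ← he]; simp [hi]
      · change F.map (χ ≫ φ) ≫ eqToHom hx.symm = F.map (χ ≫ ψ)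
        rw [CategoryTheory.Functor.map_comp, CategoryTheory.Functor.map_comp, Category.assoc, he]

theorem isGerbe_relative {𝒳' : BasedCategory.{v₂, u₂} C} (J : GrothendieckTopology C)
    (h𝒳 : Stk.IsStack J 𝒳) (h𝒴 : Stk.IsStack J 𝒴) (F : 𝒳 ⥤ᵇ 𝒴) (hF : Gerb.IsGerbeOver J F)
    (a : 𝒳 ⥤ᵇ 𝒳') (ha : FibCat.IsEquivOver a) (F' : 𝒳' ⥤ᵇ 𝒴) (hF' : FibCat.IsFibGrpd F'.toFunctor)
    (hfac : BasedFunctor.comp a F' = F) :
    Gerb.IsGerbe (𝒴.p.restrictedTopology J) (BasedCategory.ofFunctor F'.toFunctor) :=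
  ⟨isStack_over_of_fac J ((Groth.Agent.AlgStB.isStack_iff_of_isEquivOver ha J).mp h𝒳) h𝒴 F' hF',
    isGerbeOver_toSelf J h𝒴.1 F' hF' (isGerbeOver_of_precomp J a ha F' (hfac.symm ▸ hF))⟩

end GerbA
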